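import Mathlib
import Cfsg.Prelude.Def_GeometricClasses

/-!
# ASCH form kit (helper37): uniqueness of invariant forms for absolutely irreducible groups

If `P ≤ GL_n(F)` acts absolutely irreducibly and fixes a non-degenerate bilinear / unitary /
quadratic form, then every `h` normalising `P` is a similarity of that form (class `C8` output).
-/

set_option autoImplicit false

namespace Cfsg.Agent.Lib.Helper37.Asch

open Cfsg Cfsg.Geo Matrix

variable {ι : Type} [Fintype ι] [DecidableEq ι] {F : Type*} [Field F]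

/-! ### The matrix lemma -/

/-- **Matrix form of the uniqueness of invariant forms.**  `σ` a field automorphism, `J` invertible,
`xᵀ J σ(x) = J` for all `x ∈ P`, `P` with scalar commutant, `h` normalises `P`.  Then
`hᵀ J σ(h) = d • J` for a scalar `d`. -/
theorem gram_similarity (σ : F ≃+* F) (P : Subgroup (GL ι F))
    (hcomm : ∀ M : Matrix ι ι F, (∀ s ∈ matrixSet P, M * s = s * M) →
      ∃ c : F, M = c • (1 : Matrix ι ι F))
    (J : Matrix ι ι F) (hJ : IsUnit J)
    (hfix : ∀ x ∈ P, (x : Matrix ι ι F)ᵀ * J * (x : Matrix ι ι F).map σ = J)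
    (h : GL ι F) (hnorm : ∀ x ∈ P, h * x * h⁻¹ ∈ P) :
    ∃ d : F, (h : Matrix ι ι F)ᵀ * J * (h : Matrix ι ι F).map σ = d • J := by
  obtain ⟨Ju, hJu⟩ := hJ
  have hJinv : (↑Ju⁻¹ : Matrix ι ι F) * J = 1 := by rw [← hJu]; exact Ju.inv_mul
  have hJinv' : J * (↑Ju⁻¹ : Matrix ι ι F) = 1 := by rw [← hJu]; exact Ju.mul_inv
  -- `σ` on matrices is multiplicative
  have hmapmul : ∀ A B : Matrix ι ι F, (A * B).map σ = A.map σ * B.map σ := fun A B =>
    Matrix.map_mul
  have hmapone : (1 : Matrix ι ι F).map σ = 1 := by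
    ext i j
    simp [Matrix.one_apply, apply_ite]
  -- key identity: `x'ᵀ J = J σ(x)` for `x ∈ P`, `x' = x⁻¹`
  have key : ∀ x ∈ P, ((x⁻¹ : GL ι F) : Matrix ι ι F)ᵀ * J = J * (x : Matrix ι ι F).map σ := by
    intro x hx
    have h1 := hfix x⁻¹ (P.inv_mem hx)
    have h2 : ((x⁻¹ : GL ι F) : Matrix ι ι F).map σ * (x : Matrix ι ι F).map σ = 1 := by
      rw [← hmapmul, ← Units.val_mul, inv_mul_cancel, Units.val_one, hmapone]
    calc ((x⁻¹ : GL ι F) : Matrix ι ι F)ᵀ * J
        = ((x⁻¹ : GL ι F) : Matrix ι ι F)ᵀ * J * (((x⁻¹ : GL ι F) : Matrix ι ι F).map σ *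
            (x : Matrix ι ι F).map σ) := by rw [h2, Matrix.mul_one]
      _ = (((x⁻¹ : GL ι F) : Matrix ι ι F)ᵀ * J * ((x⁻¹ : GL ι F) : Matrix ι ι F).map σ) *
            (x : Matrix ι ι F).map σ := by simp only [Matrix.mul_assoc]
      _ = J * (x : Matrix ι ι F).map σ := by rw [h1]
  set D : Matrix ι ι F := (↑Ju⁻¹ : Matrix ι ι F) * (h : Matrix ι ι F)ᵀ * J * (h : Matrix ι ι F).map σ
    with hD
  have hJD : J * D = (h : Matrix ι ι F)ᵀ * J * (h : Matrix ι ι F).map σ := by
    rw [hD]
    calc J * ((↑Ju⁻¹ : Matrix ι ι F) * (h : Matrix ι ι F)ᵀ * J * (h : Matrix ι ι F).map σ)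
        = (J * (↑Ju⁻¹ : Matrix ι ι F)) * ((h : Matrix ι ι F)ᵀ * J * (h : Matrix ι ι F).map σ) := by
          simp only [Matrix.mul_assoc]
      _ = (h : Matrix ι ι F)ᵀ * J * (h : Matrix ι ι F).map σ := by rw [hJinv', Matrix.one_mul]
  -- `D` commutes with `σ(x)`, `x ∈ P`
  have hDcomm : ∀ x ∈ P, D * (x : Matrix ι ι F).map σ = (x : Matrix ι ι F).map σ * D := by
    intro x hx
    have hy : h * x * h⁻¹ ∈ P := hnorm x hx
    have hy' : h * x⁻¹ * h⁻¹ ∈ P := hnorm x⁻¹ (P.inv_mem hx)
    have hyinv : (h * x * h⁻¹)⁻¹ = h * x⁻¹ * h⁻¹ := by group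
    -- `h x = y h`, `h x' = y' h`
    have e1 : (h : Matrix ι ι F) * (x : Matrix ι ι F) =
        ((h * x * h⁻¹ : GL ι F) : Matrix ι ι F) * (h : Matrix ι ι F) := by
      rw [← Units.val_mul, ← Units.val_mul]
      congr 1
      group
    have e2 : (h : Matrix ι ι F) * ((x⁻¹ : GL ι F) : Matrix ι ι F) =
        ((h * x⁻¹ * h⁻¹ : GL ι F) : Matrix ι ι F) * (h : Matrix ι ι F) := by
      rw [← Units.val_mul, ← Units.val_mul]
      congr 1
      group
    have k1 := key (h * x * h⁻¹) hy
    rw [hyinv] at k1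
    have k2 := key x hx
    -- it suffices to compare after multiplying by `J`
    have hL : J * (D * (x : Matrix ι ι F).map σ) =
        (h : Matrix ι ι F)ᵀ * J * ((h * x * h⁻¹ : GL ι F) : Matrix ι ι F).map σ *
          (h : Matrix ι ι F).map σ := by
      rw [← Matrix.mul_assoc, hJD]
      calc (h : Matrix ι ι F)ᵀ * J * (h : Matrix ι ι F).map σ * (x : Matrix ι ι F).map σ
          = (h : Matrix ι ι F)ᵀ * J * (((h : Matrix ι ι F) * (x : Matrix ι ι F)).map σ) := by
            rw [hmapmul]; simp only [Matrix.mul_assoc]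
        _ = (h : Matrix ι ι F)ᵀ * J * ((((h * x * h⁻¹ : GL ι F) : Matrix ι ι F) *
              (h : Matrix ι ι F)).map σ) := by rw [e1]
        _ = _ := by rw [hmapmul]; simp only [Matrix.mul_assoc]
    have hR : J * ((x : Matrix ι ι F).map σ * D) =
        (h : Matrix ι ι F)ᵀ * J * ((h * x * h⁻¹ : GL ι F) : Matrix ι ι F).map σ *
          (h : Matrix ι ι F).map σ := by
      calc J * ((x : Matrix ι ι F).map σ * D)
          = (J * (x : Matrix ι ι F).map σ) * D := by rw [Matrix.mul_assoc]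
        _ = ((x⁻¹ : GL ι F) : Matrix ι ι F)ᵀ * (J * D) := by rw [← k2, Matrix.mul_assoc]
        _ = ((x⁻¹ : GL ι F) : Matrix ι ι F)ᵀ * ((h : Matrix ι ι F)ᵀ * J * (h : Matrix ι ι F).map σ) := by
            rw [hJD]
        _ = ((h : Matrix ι ι F) * ((x⁻¹ : GL ι F) : Matrix ι ι F))ᵀ * J * (h : Matrix ι ι F).map σ := by
            rw [Matrix.transpose_mul]; simp only [Matrix.mul_assoc]
        _ = (((h * x⁻¹ * h⁻¹ : GL ι F) : Matrix ι ι F) * (h : Matrix ι ι F))ᵀ * J *
              (h : Matrix ι ι F).map σ := by rw [e2]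
        _ = (h : Matrix ι ι F)ᵀ * (((h * x⁻¹ * h⁻¹ : GL ι F) : Matrix ι ι F)ᵀ * J) *
              (h : Matrix ι ι F).map σ := by
            rw [Matrix.transpose_mul]; simp only [Matrix.mul_assoc]
        _ = (h : Matrix ι ι F)ᵀ * (J * ((h * x * h⁻¹ : GL ι F) : Matrix ι ι F).map σ) *
              (h : Matrix ι ι F).map σ := by rw [k1]
        _ = _ := by simp only [Matrix.mul_assoc]
    have hJ2 : J * (D * (x : Matrix ι ι F).map σ) = J * ((x : Matrix ι ι F).map σ * D) := by
      rw [hL, hR]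
    calc D * (x : Matrix ι ι F).map σ
        = ((↑Ju⁻¹ : Matrix ι ι F) * J) * (D * (x : Matrix ι ι F).map σ) := by
          rw [hJinv, Matrix.one_mul]
      _ = (↑Ju⁻¹ : Matrix ι ι F) * (J * (D * (x : Matrix ι ι F).map σ)) := by
          rw [Matrix.mul_assoc]
      _ = (↑Ju⁻¹ : Matrix ι ι F) * (J * ((x : Matrix ι ι F).map σ * D)) := by rw [hJ2]
      _ = ((↑Ju⁻¹ : Matrix ι ι F) * J) * ((x : Matrix ι ι F).map σ * D) := by
          rw [Matrix.mul_assoc]
      _ = (x : Matrix ι ι F).map σ * D := by rw [hJinv, Matrix.one_mul]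
  -- apply `σ⁻¹`: `C := σ⁻¹(D)` commutes with `P`
  have hσσ : ∀ A : Matrix ι ι F, (A.map σ).map σ.symm = A := by
    intro A
    ext i j
    simp
  have hσσ' : ∀ A : Matrix ι ι F, (A.map σ.symm).map σ = A := by
    intro A
    ext i j
    simp
  have hmapmul' : ∀ A B : Matrix ι ι F, (A * B).map σ.symm = A.map σ.symm * B.map σ.symm :=
    fun A B => Matrix.map_mul
  obtain ⟨c, hc⟩ := hcomm (D.map σ.symm) (by
    rintro s ⟨x, hx, rfl⟩
    have := congrArg (fun A : Matrix ι ι F => A.map σ.symm) (hDcomm x hx)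
    simp only [hmapmul', hσσ] at this
    exact this)
  refine ⟨σ c, ?_⟩
  have hDc : D = (σ c) • (1 : Matrix ι ι F) := by
    have := congrArg (fun A : Matrix ι ι F => A.map σ) hc
    simp only [hσσ'] at this
    rw [this]
    ext i j
    by_cases hij : i = j
    · subst hij
      simp
    · simp [hij]
  rw [← hJD, hDc, Matrix.mul_smul, Matrix.mul_one]

/-! ### Gram matrices of two-argument forms -/

/-- a form which is linear in the first variable and `σ`-semilinear in the second one -/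
structure IsSesqForm (σ : F ≃+* F) (f : (ι → F) → (ι → F) → F) : Prop where
  add_left : ∀ x y v, f (x + y) v = f x v + f y v
  smul_left : ∀ (c : F) (x v : ι → F), f (c • x) v = c * f x v
  add_right : ∀ v x y, f v (x + y) = f v x + f v y
  smul_right : ∀ (c : F) (v x : ι → F), f v (c • x) = σ c * f v x

omit [Fintype ι] [DecidableEq ι] in
theorem isSesq_of_bilinear {f : (ι → F) → (ι → F) → F} (hf : IsBilinearForm f) :
    IsSesqForm (RingEquiv.refl F) f :=
  ⟨hf.add_left, hf.smul_left, hf.add_right, hf.smul_right⟩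

omit [Fintype ι] [DecidableEq ι] in
theorem isSesq_of_unitary {σ : F ≃+* F} {f : (ι → F) → (ι → F) → F} (hf : IsUnitaryForm σ f) :
    IsSesqForm σ f := by
  refine ⟨hf.add_left, hf.smul_left, ?_, ?_⟩
  · intro v x y
    rw [hf.herm v (x + y), hf.add_left, map_add, ← hf.herm, ← hf.herm]
  · intro c v x
    rw [hf.herm v (c • x), hf.smul_left, map_mul, ← hf.herm]

/-- the Gram matrix -/
def gram (f : (ι → F) → (ι → F) → F) : Matrix ι ι F :=
  Matrix.of fun i j => f (Pi.single i 1) (Pi.single j 1)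

namespace IsSesqForm

variable {σ : F ≃+* F} {f : (ι → F) → (ι → F) → F}

omit [Fintype ι] [DecidableEq ι] in
theorem zero_left (hf : IsSesqForm σ f) (v : ι → F) : f 0 v = 0 := by
  have := hf.smul_left 0 0 v
  rwa [zero_smul, zero_mul] at this

omit [Fintype ι] [DecidableEq ι] in
theorem zero_right (hf : IsSesqForm σ f) (v : ι → F) : f v 0 = 0 := by
  have := hf.smul_right 0 v 0
  rwa [zero_smul, map_zero, zero_mul] at this

omit [Fintype ι] [DecidableEq ι] in
theorem sum_left (hf : IsSesqForm σ f) {κ : Type*} (s : Finset κ) (g : κ → ι → F) (v : ι → F) :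
    f (∑ k ∈ s, g k) v = ∑ k ∈ s, f (g k) v := by
  classical
  induction s using Finset.induction_on with
  | empty => simp [hf.zero_left]
  | insert a s ha ih => rw [Finset.sum_insert ha, Finset.sum_insert ha, hf.add_left, ih]

omit [Fintype ι] [DecidableEq ι] in
theorem sum_right (hf : IsSesqForm σ f) {κ : Type*} (s : Finset κ) (g : κ → ι → F) (v : ι → F) :
    f v (∑ k ∈ s, g k) = ∑ k ∈ s, f v (g k) := by
  classical
  induction s using Finset.induction_on with
  | empty => simp [hf.zero_right]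
  | insert a s ha ih => rw [Finset.sum_insert ha, Finset.sum_insert ha, hf.add_right, ih]

/-- `f u v = uᵀ J σ(v)` -/
theorem eq_gram (hf : IsSesqForm σ f) (u v : ι → F) :
    f u v = u ⬝ᵥ (gram f *ᵥ (fun j => σ (v j))) := by
  have hu : u = ∑ i, u i • (Pi.single i 1 : ι → F) := by
    ext k
    simp [Finset.sum_apply, Pi.single_apply]
  have hv : v = ∑ j, v j • (Pi.single j 1 : ι → F) := by
    ext k
    simp [Finset.sum_apply, Pi.single_apply]
  conv_lhs => rw [hu, hv]
  rw [hf.sum_left]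
  simp only [dotProduct, mulVec, gram, Matrix.of_apply]
  apply Finset.sum_congr rfl
  intro i _
  rw [hf.smul_left, hf.sum_right]
  congr 1
  apply Finset.sum_congr rfl
  intro j _
  rw [hf.smul_right]
  ring

/-- transformation rule -/
theorem apply_mulVec (hf : IsSesqForm σ f) (A : Matrix ι ι F) (u v : ι → F) :
    f (A *ᵥ u) (A *ᵥ v) = u ⬝ᵥ ((Aᵀ * gram f * A.map σ) *ᵥ (fun j => σ (v j))) := by
  rw [hf.eq_gram]
  have h1 : (fun j => σ ((A *ᵥ v) j)) = A.map σ *ᵥ (fun j => σ (v j)) := by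
    ext j
    exact RingHom.map_mulVec (σ : F →+* F) A v j
  rw [h1, ← Matrix.mulVec_mulVec, ← Matrix.mulVec_mulVec, Matrix.dotProduct_mulVec u Aᵀ,
    Matrix.vecMul_transpose]

/-- entries of a matrix via the standard basis -/
theorem single_dot_mulVec_single (M : Matrix ι ι F) (i j : ι) :
    (Pi.single i 1 : ι → F) ⬝ᵥ (M *ᵥ (Pi.single j 1 : ι → F)) = M i j := by
  simp [dotProduct, mulVec, Pi.single_apply]

omit [Fintype ι] in
theorem map_single (j : ι) : (fun k => σ ((Pi.single j 1 : ι → F) k)) = (Pi.single j 1 : ι → F) := by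
  ext k
  by_cases h : k = j
  · subst h; simp
  · simp [h]

/-- invariance of the form in terms of the Gram matrix -/
theorem gram_of_fixes (hf : IsSesqForm σ f) {A : Matrix ι ι F}
    (h : ∀ u v, f (A *ᵥ u) (A *ᵥ v) = f u v) : Aᵀ * gram f * A.map σ = gram f := by
  ext i j
  have h1 := h (Pi.single i 1) (Pi.single j 1)
  rw [hf.apply_mulVec, map_single, single_dot_mulVec_single] at h1
  rw [h1]
  rfl

/-- non-degeneracy gives an invertible Gram matrix -/
theorem isUnit_gram (hf : IsSesqForm σ f) (hnd : IsNondegenerateForm f) : IsUnit (gram f) := by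
  rw [← Matrix.mulVec_injective_iff_isUnit]
  have key : ∀ w : ι → F, gram f *ᵥ w = 0 → w = 0 := by
    intro w hw
    by_contra hw0
    set v : ι → F := fun j => σ.symm (w j) with hv
    have hv0 : v ≠ 0 := by
      intro h0
      apply hw0
      ext j
      have := congrFun h0 j
      simp only [hv, Pi.zero_apply] at this
      have h2 := congrArg σ this
      simpa using h2
    obtain ⟨⟨x, hx⟩, -⟩ := hnd v hv0
    apply hx
    rw [hf.eq_gram]
    have : (fun j => σ (v j)) = w := by
      ext j; simp [hv]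
    rw [this, hw, dotProduct_zero]
  intro w w' h
  have := key (w - w') (by rw [Matrix.mulVec_sub, h, sub_self])
  exact sub_eq_zero.mp this

end IsSesqForm

/-! ### Similarities -/

/-- **Form uniqueness, sesquilinear version.** -/
theorem mem_similarityGroup_of_sesq {σ : F ≃+* F} {f : (ι → F) → (ι → F) → F}
    (hf : IsSesqForm σ f) (hnd : IsNondegenerateForm f) (P : Subgroup (GL ι F))
    (hirr : ActsAbsolutelyIrreducibly (matrixSet P)) (hfix : FixesForm (matrixSet P) f)
    (h : GL ι F) (hnorm : ∀ x ∈ P, h * x * h⁻¹ ∈ P) : h ∈ similarityGroup f := by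
  have hJ := hf.isUnit_gram hnd
  have hfixJ : ∀ x ∈ P, (x : Matrix ι ι F)ᵀ * gram f * (x : Matrix ι ι F).map σ = gram f := by
    intro x hx
    exact hf.gram_of_fixes (hfix _ ⟨x, hx, rfl⟩)
  obtain ⟨d, hd⟩ := gram_similarity σ P hirr.2 (gram f) hJ hfixJ h hnorm
  have key : ∀ u v, f ((h : Matrix ι ι F) *ᵥ u) ((h : Matrix ι ι F) *ᵥ v) = d * f u v := by
    intro u v
    rw [hf.apply_mulVec, hd, Matrix.smul_mulVec, dotProduct_smul, smul_eq_mul, ← hf.eq_gram]
  by_cases hd0 : d = 0
  · refine ⟨1, fun u v => ?_⟩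
    rw [Units.val_one, one_mul, key, hd0, zero_mul]
    have h2 := key (((h⁻¹ : GL ι F) : Matrix ι ι F) *ᵥ u) (((h⁻¹ : GL ι F) : Matrix ι ι F) *ᵥ v)
    rw [Matrix.mulVec_mulVec, Matrix.mulVec_mulVec, ← Units.val_mul, mul_inv_cancel, Units.val_one,
      Matrix.one_mulVec, Matrix.one_mulVec, hd0, zero_mul] at h2
    exact h2.symm
  · exact ⟨Units.mk0 d hd0, fun u v => by rw [Units.val_mk0]; exact key u v⟩

/-- **`C8`, symplectic / bilinear case**: if `P` is absolutely irreducible and fixes the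
non-degenerate bilinear form `f`, then everything normalising `P` is a similarity of `f`. -/
theorem le_similarityGroup_of_bilinear {f : (ι → F) → (ι → F) → F} (hf : IsBilinearForm f)
    (hnd : IsNondegenerateForm f) (P H : Subgroup (GL ι F))
    (hirr : ActsAbsolutelyIrreducibly (matrixSet P)) (hfix : FixesForm (matrixSet P) f)
    (hnorm : ∀ h ∈ H, ∀ x ∈ P, h * x * h⁻¹ ∈ P) : H ≤ similarityGroup f := fun h hh =>
  mem_similarityGroup_of_sesq (isSesq_of_bilinear hf) hnd P hirr hfix h (hnorm h hh)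

theorem le_similarityGroup_of_symplectic {f : (ι → F) → (ι → F) → F} (hf : IsSymplecticForm f)
    (P H : Subgroup (GL ι F)) (hirr : ActsAbsolutelyIrreducibly (matrixSet P))
    (hfix : FixesForm (matrixSet P) f) (hnorm : ∀ h ∈ H, ∀ x ∈ P, h * x * h⁻¹ ∈ P) :
    H ≤ similarityGroup f :=
  le_similarityGroup_of_bilinear hf.bilinear hf.nondegenerate P H hirr hfix hnorm

/-- **`C8`, unitary case.** -/
theorem le_similarityGroup_of_unitary {σ : F ≃+* F} {f : (ι → F) → (ι → F) → F}
    (hf : IsUnitaryForm σ f) (P H : Subgroup (GL ι F))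
    (hirr : ActsAbsolutelyIrreducibly (matrixSet P)) (hfix : FixesForm (matrixSet P) f)
    (hnorm : ∀ h ∈ H, ∀ x ∈ P, h * x * h⁻¹ ∈ P) : H ≤ similarityGroup f := fun h hh =>
  mem_similarityGroup_of_sesq (isSesq_of_unitary hf) hf.nondegenerate P hirr hfix h (hnorm h hh)

omit [DecidableEq ι] in
/-- the polar form of a fixed quadratic form is fixed -/
theorem fixesForm_polar {S : Set (Matrix ι ι F)} {Q : (ι → F) → F} (h : FixesQuadForm S Q) :
    FixesForm S (QuadraticMap.polar Q) := by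
  intro s hs u v
  unfold QuadraticMap.polar
  rw [← Matrix.mulVec_add, h s hs, h s hs, h s hs]

omit [Fintype ι] [DecidableEq ι] in
theorem polar_self {Q : (ι → F) → F} (hQ : IsNondegenerateQuadraticForm Q) (v : ι → F) :
    QuadraticMap.polar Q v v = 2 * Q v := by
  unfold QuadraticMap.polar
  have : v + v = (2 : F) • v := by rw [two_smul]
  rw [this, hQ.smul]
  ring

/-- **`C8`, quadratic case, odd characteristic.** -/
theorem le_quadSimilarityGroup {Q : (ι → F) → F} (hQ : IsNondegenerateQuadraticForm Q)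
    (h2 : (2 : F) ≠ 0) (P H : Subgroup (GL ι F)) (hirr : ActsAbsolutelyIrreducibly (matrixSet P))
    (hfix : FixesQuadForm (matrixSet P) Q) (hnorm : ∀ h ∈ H, ∀ x ∈ P, h * x * h⁻¹ ∈ P) :
    H ≤ quadSimilarityGroup Q := by
  intro h hh
  obtain ⟨c, hc⟩ := le_similarityGroup_of_bilinear hQ.polar_bilinear hQ.nondegenerate P H hirr
    (fixesForm_polar hfix) hnorm hh
  refine ⟨c, fun v => ?_⟩
  have h1 := hc v v
  rw [polar_self hQ, polar_self hQ] at h1
  have h3 : (2 : F) * Q ((h : Matrix ι ι F) *ᵥ v) = 2 * ((c : F) * Q v) := by rw [h1]; ring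
  exact mul_left_cancel₀ h2 h3

omit [Fintype ι] [DecidableEq ι] in
/-- in characteristic two the polar form of a non-degenerate quadratic form is symplectic -/
theorem isSymplecticForm_polar {Q : (ι → F) → F} (hQ : IsNondegenerateQuadraticForm Q)
    (h2 : (2 : F) = 0) : IsSymplecticForm (QuadraticMap.polar Q) := by
  refine ⟨hQ.polar_bilinear, ?_, ?_, hQ.nondegenerate⟩
  · intro v w
    have hs : QuadraticMap.polar Q v w = QuadraticMap.polar Q w v := by
      unfold QuadraticMap.polar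
      rw [add_comm v w]
      ring
    rw [hs]
    have : (2 : F) * QuadraticMap.polar Q w v = 0 := by rw [h2, zero_mul]
    linear_combination this
  · intro v
    rw [polar_self hQ, h2, zero_mul]

end Cfsg.Agent.Lib.Helper37.Asch
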