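import Mathlib
import Cfsg.Prelude.Def_GeometricClasses
import Cfsg.Agent.Lib.Helper37.Asch.FormKit

/-!
# ASCH form kit, part 2 (helper37): forms from Gram matrices

`formOf σ J u v = uᵀ J σ(v)`; invariance, non-degeneracy, hermitian symmetry in terms of `J`;
two invariant Gram matrices of an absolutely irreducible group are proportional; the
"inverse-transpose-σ" automorphism of `GL`.
-/

set_option autoImplicit false

namespace Cfsg.Agent.Lib.Helper37.Asch

open Cfsg Cfsg.Geo Matrix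

variable {ι : Type} [Fintype ι] [DecidableEq ι] {F : Type*} [Field F]

/-- the form `uᵀ J σ(v)` -/
def formOf (σ : F ≃+* F) (J : Matrix ι ι F) (u v : ι → F) : F :=
  u ⬝ᵥ (J *ᵥ (fun j => σ (v j)))

omit [DecidableEq ι] in
theorem isSesq_formOf (σ : F ≃+* F) (J : Matrix ι ι F) : IsSesqForm σ (formOf σ J) := by
  refine ⟨fun x y v => ?_, fun c x v => ?_, fun v x y => ?_, fun c v x => ?_⟩
  · unfold formOf; rw [add_dotProduct]
  · unfold formOf; rw [smul_dotProduct, smul_eq_mul]
  · unfold formOf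
    have : (fun j => σ ((x + y) j)) = (fun j => σ (x j)) + (fun j => σ (y j)) := by
      ext j; simp
    rw [this, Matrix.mulVec_add, dotProduct_add]
  · unfold formOf
    have : (fun j => σ ((c • x) j)) = σ c • (fun j => σ (x j)) := by
      ext j; simp
    rw [this, Matrix.mulVec_smul, dotProduct_smul, smul_eq_mul]

theorem gram_formOf (σ : F ≃+* F) (J : Matrix ι ι F) : gram (formOf σ J) = J := by
  ext i j
  unfold gram formOf
  rw [Matrix.of_apply, IsSesqForm.map_single, IsSesqForm.single_dot_mulVec_single]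

theorem formOf_mulVec (σ : F ≃+* F) (J A : Matrix ι ι F) (u v : ι → F) :
    formOf σ J (A *ᵥ u) (A *ᵥ v) = formOf σ (Aᵀ * J * A.map σ) u v := by
  rw [(isSesq_formOf σ J).apply_mulVec, gram_formOf]
  rfl

omit [DecidableEq ι] in
theorem formOf_smul (σ : F ≃+* F) (c : F) (J : Matrix ι ι F) (u v : ι → F) :
    formOf σ (c • J) u v = c * formOf σ J u v := by
  unfold formOf
  rw [Matrix.smul_mulVec, dotProduct_smul, smul_eq_mul]

theorem nondegenerate_formOf (σ : F ≃+* F) {J : Matrix ι ι F} (hJ : IsUnit J) :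
    IsNondegenerateForm (formOf σ J) := by
  intro v hv
  have hσv : (fun j => σ (v j)) ≠ 0 := by
    intro h0
    apply hv
    ext j
    have := congrFun h0 j
    simpa using this
  constructor
  · have hw : J *ᵥ (fun j => σ (v j)) ≠ 0 := by
      intro h0
      apply hσv
      have hinj := Matrix.mulVec_injective_iff_isUnit.mpr hJ
      apply hinj
      show J *ᵥ _ = J *ᵥ 0
      rw [h0, Matrix.mulVec_zero]
    obtain ⟨i, hi⟩ : ∃ i, (J *ᵥ (fun j => σ (v j))) i ≠ 0 := by
      by_contra hno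
      push Not at hno
      exact hw (funext hno)
    refine ⟨Pi.single i 1, ?_⟩
    unfold formOf
    rwa [single_one_dotProduct]
  · have hw : v ᵥ* J ≠ 0 := by
      intro h0
      apply hv
      have hinj := Matrix.vecMul_injective_iff_isUnit.mpr hJ
      apply hinj
      show v ᵥ* J = 0 ᵥ* J
      rw [h0, Matrix.zero_vecMul]
    obtain ⟨i, hi⟩ : ∃ i, (v ᵥ* J) i ≠ 0 := by
      by_contra hno
      push Not at hno
      exact hw (funext hno)
    refine ⟨Pi.single i 1, ?_⟩
    unfold formOf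
    rw [IsSesqForm.map_single, Matrix.dotProduct_mulVec, dotProduct_single_one]
    exact hi

omit [DecidableEq ι] in
/-- hermitian symmetry in terms of the Gram matrix -/
theorem formOf_swap (σ : F ≃+* F) (hinv : ∀ a, σ (σ a) = a) (J : Matrix ι ι F) (u v : ι → F) :
    σ (formOf σ J u v) = formOf σ ((J.map σ)ᵀ) v u := by
  unfold formOf
  simp only [dotProduct, mulVec, map_sum, map_mul, hinv, Matrix.transpose_apply, Matrix.map_apply,
    Finset.mul_sum]
  rw [Finset.sum_comm]
  refine Finset.sum_congr rfl fun j _ => Finset.sum_congr rfl fun i _ => ?_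
  ring

/-! ### The key identity and proportionality of invariant Gram matrices -/

theorem map_mul_map_inv (σ : F ≃+* F) (x : GL ι F) :
    ((x⁻¹ : GL ι F) : Matrix ι ι F).map σ * (x : Matrix ι ι F).map σ = 1 := by
  rw [← Matrix.map_mul, ← Units.val_mul, inv_mul_cancel, Units.val_one]
  ext i j
  simp [Matrix.one_apply, apply_ite]

/-- `x⁻ᵀ J = J σ(x)` when `xᵀ J σ(x) = J` holds on a group -/
theorem gram_key (σ : F ≃+* F) (P : Subgroup (GL ι F)) (J : Matrix ι ι F)
    (hfix : ∀ x ∈ P, (x : Matrix ι ι F)ᵀ * J * (x : Matrix ι ι F).map σ = J) :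
    ∀ x ∈ P, ((x⁻¹ : GL ι F) : Matrix ι ι F)ᵀ * J = J * (x : Matrix ι ι F).map σ := by
  intro x hx
  have h1 := hfix x⁻¹ (P.inv_mem hx)
  have h2 := map_mul_map_inv σ x
  calc ((x⁻¹ : GL ι F) : Matrix ι ι F)ᵀ * J
      = ((x⁻¹ : GL ι F) : Matrix ι ι F)ᵀ * J * (((x⁻¹ : GL ι F) : Matrix ι ι F).map σ *
          (x : Matrix ι ι F).map σ) := by rw [h2, Matrix.mul_one]
    _ = (((x⁻¹ : GL ι F) : Matrix ι ι F)ᵀ * J * ((x⁻¹ : GL ι F) : Matrix ι ι F).map σ) *
          (x : Matrix ι ι F).map σ := by simp only [Matrix.mul_assoc]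
    _ = J * (x : Matrix ι ι F).map σ := by rw [h1]

/-- two invariant Gram matrices of a group with scalar commutant are proportional -/
theorem gram_proportional (σ : F ≃+* F) (P : Subgroup (GL ι F))
    (hcomm : ∀ M : Matrix ι ι F, (∀ s ∈ matrixSet P, M * s = s * M) →
      ∃ c : F, M = c • (1 : Matrix ι ι F))
    (J J' : Matrix ι ι F) (hJ : IsUnit J)
    (hfix : ∀ x ∈ P, (x : Matrix ι ι F)ᵀ * J * (x : Matrix ι ι F).map σ = J)
    (hfix' : ∀ x ∈ P, (x : Matrix ι ι F)ᵀ * J' * (x : Matrix ι ι F).map σ = J') :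
    ∃ c : F, J' = c • J := by
  obtain ⟨Ju, hJu⟩ := hJ
  have hJinv : (↑Ju⁻¹ : Matrix ι ι F) * J = 1 := by rw [← hJu]; exact Ju.inv_mul
  have hJinv' : J * (↑Ju⁻¹ : Matrix ι ι F) = 1 := by rw [← hJu]; exact Ju.mul_inv
  set D : Matrix ι ι F := (↑Ju⁻¹ : Matrix ι ι F) * J' with hD
  have hJD : J * D = J' := by
    rw [hD, ← Matrix.mul_assoc, hJinv', Matrix.one_mul]
  have k1 := gram_key σ P J hfix
  have k2 := gram_key σ P J' hfix'
  have hDcomm : ∀ x ∈ P, D * (x : Matrix ι ι F).map σ = (x : Matrix ι ι F).map σ * D := by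
    intro x hx
    have hJ2 : J * (D * (x : Matrix ι ι F).map σ) = J * ((x : Matrix ι ι F).map σ * D) := by
      rw [← Matrix.mul_assoc, hJD, ← k2 x hx, ← Matrix.mul_assoc, ← k1 x hx, Matrix.mul_assoc, hJD]
    calc D * (x : Matrix ι ι F).map σ
        = ((↑Ju⁻¹ : Matrix ι ι F) * J) * (D * (x : Matrix ι ι F).map σ) := by
          rw [hJinv, Matrix.one_mul]
      _ = (↑Ju⁻¹ : Matrix ι ι F) * (J * (D * (x : Matrix ι ι F).map σ)) := by
          rw [Matrix.mul_assoc]
      _ = (↑Ju⁻¹ : Matrix ι ι F) * (J * ((x : Matrix ι ι F).map σ * D)) := by rw [hJ2]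
      _ = ((↑Ju⁻¹ : Matrix ι ι F) * J) * ((x : Matrix ι ι F).map σ * D) := by
          rw [Matrix.mul_assoc]
      _ = (x : Matrix ι ι F).map σ * D := by rw [hJinv, Matrix.one_mul]
  have hσσ : ∀ A : Matrix ι ι F, (A.map σ).map σ.symm = A := by
    intro A; ext i j; simp
  have hσσ' : ∀ A : Matrix ι ι F, (A.map σ.symm).map σ = A := by
    intro A; ext i j; simp
  have hmapmul' : ∀ A B : Matrix ι ι F, (A * B).map σ.symm = A.map σ.symm * B.map σ.symm :=
    fun A B => Matrix.map_mul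
  obtain ⟨c, hc⟩ := hcomm (D.map σ.symm) (by
    rintro s ⟨x, hx, rfl⟩
    have := congrArg (fun A : Matrix ι ι F => A.map σ.symm) (hDcomm x hx)
    simp only [hmapmul', hσσ] at this
    exact this)
  refine ⟨σ c, ?_⟩
  have hDc : D = (σ c) • (1 : Matrix ι ι F) := by
    have := congrArg (fun A : Matrix ι ι F => A.map σ) hc
    simp only [hσσ'] at this
    rw [this]
    ext i j
    by_cases hij : i = j
    · subst hij
      simp
    · simp [hij]
  rw [← hJD, hDc, Matrix.mul_smul, Matrix.mul_one]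

/-! ### The dual homomorphism `x ↦ σ(x⁻¹)ᵀ` -/

/-- `x ↦ σ(x⁻¹)ᵀ` as an endomorphism of `GL` -/
def dualHom (σ : F ≃+* F) : GL ι F →* GL ι F :=
  MonoidHom.mk' (fun x =>
    ⟨(((x⁻¹ : GL ι F) : Matrix ι ι F).map σ)ᵀ, ((x : Matrix ι ι F).map σ)ᵀ,
      by rw [← Matrix.transpose_mul]
         have := map_mul_map_inv σ x⁻¹
         rw [inv_inv] at this
         rw [this, Matrix.transpose_one],
      by rw [← Matrix.transpose_mul, map_mul_map_inv, Matrix.transpose_one]⟩)
    (fun a b => by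
      apply Units.ext
      show ((((a * b)⁻¹ : GL ι F) : Matrix ι ι F).map σ)ᵀ =
        (((a⁻¹ : GL ι F) : Matrix ι ι F).map σ)ᵀ * (((b⁻¹ : GL ι F) : Matrix ι ι F).map σ)ᵀ
      rw [_root_.mul_inv_rev, Units.val_mul, Matrix.map_mul, Matrix.transpose_mul])

theorem dualHom_val (σ : F ≃+* F) (x : GL ι F) :
    ((dualHom σ x : GL ι F) : Matrix ι ι F) = (((x⁻¹ : GL ι F) : Matrix ι ι F).map σ)ᵀ := rfl

end Cfsg.Agent.Lib.Helper37.Asch
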