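import Mathlib
import Cfsg.Prelude.Def_GeometricClasses
import Cfsg.Agent.Lib.Helper37.Asch.FormKit2

/-!
# ASCH form kit (helper37): invariant Gram matrices in tensor normal form

If the matrices `a ⊗ 1` (`a` running through an absolutely irreducible set `S ⊆ GL_d(F)`) are
similarities of an invertible Gram matrix `J` on `F^(d × e)`, then `J = G₁ ⊗ G₂` with `G₁`
similarity-invariant under `S`, and `G₁`, `G₂` invertible.
-/

set_option autoImplicit false

namespace Cfsg.Agent.Lib.Helper37.Asch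

open Cfsg Cfsg.Geo Matrix
open scoped Kronecker

variable {F : Type*} [Field F]

section Irr

variable {d : Type} [Fintype d] [DecidableEq d]

/-- a non-zero Gram matrix which is similarity-invariant under an irreducible set is invertible -/
theorem isUnit_of_sim_invariant (σ : F ≃+* F) (S : Set (GL d F))
    (hirr : ActsIrreducibly ((fun a : GL d F => (a : Matrix d d F)) '' S))
    (μ : GL d F → F) (G : Matrix d d F) (hG : G ≠ 0)
    (hfix : ∀ a ∈ S, (a : Matrix d d F)ᵀ * G * (a : Matrix d d F).map σ = μ a • G) :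
    IsUnit G := by
  -- the left kernel of `G`
  let L : Submodule F (d → F) := LinearMap.ker (Matrix.toLin' Gᵀ)
  have hL : ∀ u, u ∈ L ↔ u ᵥ* G = 0 := by
    intro u
    rw [LinearMap.mem_ker, Matrix.toLin'_apply, Matrix.mulVec_transpose]
  have hinv : ∀ s ∈ (fun a : GL d F => (a : Matrix d d F)) '' S, L.map (Matrix.toLin' s) ≤ L := by
    rintro _ ⟨a, ha, rfl⟩ _ ⟨u, hu, rfl⟩
    have hu : u ᵥ* G = 0 := (hL u).mp hu
    show Matrix.toLin' (a : Matrix d d F) u ∈ L
    rw [hL, Matrix.toLin'_apply]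
    -- `(a u) G = u (aᵀ G) = μ (u G) σ(a)⁻¹ = 0`
    have h1 : (a : Matrix d d F)ᵀ * G =
        μ a • (G * ((a⁻¹ : GL d F) : Matrix d d F).map σ) := by
      have h2 := hfix a ha
      have h3 := map_mul_map_inv σ a⁻¹
      rw [inv_inv] at h3
      calc (a : Matrix d d F)ᵀ * G
          = (a : Matrix d d F)ᵀ * G * ((a : Matrix d d F).map σ *
              ((a⁻¹ : GL d F) : Matrix d d F).map σ) := by rw [h3, Matrix.mul_one]
        _ = ((a : Matrix d d F)ᵀ * G * (a : Matrix d d F).map σ) *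
              ((a⁻¹ : GL d F) : Matrix d d F).map σ := by simp only [Matrix.mul_assoc]
        _ = _ := by rw [h2, Matrix.smul_mul]
    have h4 : ((a : Matrix d d F) *ᵥ u) ᵥ* G = u ᵥ* ((a : Matrix d d F)ᵀ * G) := by
      rw [← Matrix.vecMul_vecMul, Matrix.vecMul_transpose]
    rw [h4, h1, Matrix.vecMul_smul, ← Matrix.vecMul_vecMul, hu, Matrix.zero_vecMul, smul_zero]
  rcases hirr L hinv with h | h
  · -- trivial left kernel
    have hinj : Function.Injective (fun u : d → F => u ᵥ* G) := by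
      intro u u' huu
      have : u - u' ∈ L := by
        rw [hL, Matrix.sub_vecMul]
        exact sub_eq_zero.mpr huu
      rw [h, Submodule.mem_bot] at this
      exact sub_eq_zero.mp this
    exact Matrix.vecMul_injective_iff_isUnit.mp hinj
  · exfalso
    apply hG
    ext i j
    have : (Pi.single i 1 : d → F) ∈ L := by rw [h]; exact Submodule.mem_top
    rw [hL] at this
    have h5 := congrFun this j
    simpa using h5

/-- two similarity-invariant Gram matrices (same multipliers) of a set with scalar commutant are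
proportional -/
theorem gram_proportional_sim (σ : F ≃+* F) (S : Set (GL d F))
    (hcomm : ∀ M : Matrix d d F, (∀ a ∈ S, M * (a : Matrix d d F) = (a : Matrix d d F) * M) →
      ∃ c : F, M = c • (1 : Matrix d d F))
    (μ : GL d F → F) (J J' : Matrix d d F) (hJ : IsUnit J)
    (hfix : ∀ a ∈ S, (a : Matrix d d F)ᵀ * J * (a : Matrix d d F).map σ = μ a • J)
    (hfix' : ∀ a ∈ S, (a : Matrix d d F)ᵀ * J' * (a : Matrix d d F).map σ = μ a • J') :
    ∃ c : F, J' = c • J := by
  obtain ⟨Ju, hJu⟩ := hJ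
  have hJinv : (↑Ju⁻¹ : Matrix d d F) * J = 1 := by rw [← hJu]; exact Ju.inv_mul
  have hJinv' : J * (↑Ju⁻¹ : Matrix d d F) = 1 := by rw [← hJu]; exact Ju.mul_inv
  set D : Matrix d d F := (↑Ju⁻¹ : Matrix d d F) * J' with hD
  have hJD : J * D = J' := by
    rw [hD, ← Matrix.mul_assoc, hJinv', Matrix.one_mul]
  -- `G σ(a) = μ a⁻ᵀ G` for both
  have key : ∀ G : Matrix d d F, ∀ a : GL d F,
      (a : Matrix d d F)ᵀ * G * (a : Matrix d d F).map σ = μ a • G →
      G * (a : Matrix d d F).map σ = μ a • (((a⁻¹ : GL d F) : Matrix d d F)ᵀ * G) := by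
    intro G a h
    have h1 : ((a⁻¹ : GL d F) : Matrix d d F)ᵀ * (a : Matrix d d F)ᵀ = 1 := by
      rw [← Matrix.transpose_mul, ← Units.val_mul, mul_inv_cancel, Units.val_one,
        Matrix.transpose_one]
    calc G * (a : Matrix d d F).map σ
        = (((a⁻¹ : GL d F) : Matrix d d F)ᵀ * (a : Matrix d d F)ᵀ) * (G * (a : Matrix d d F).map σ) := by
          rw [h1, Matrix.one_mul]
      _ = ((a⁻¹ : GL d F) : Matrix d d F)ᵀ * ((a : Matrix d d F)ᵀ * G * (a : Matrix d d F).map σ) := by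
          simp only [Matrix.mul_assoc]
      _ = _ := by rw [h, Matrix.mul_smul]
  have hDcomm : ∀ a ∈ S, D * (a : Matrix d d F).map σ = (a : Matrix d d F).map σ * D := by
    intro a ha
    have k1 := key J a (hfix a ha)
    have k2 := key J' a (hfix' a ha)
    have hJ2 : J * (D * (a : Matrix d d F).map σ) = J * ((a : Matrix d d F).map σ * D) := by
      rw [← Matrix.mul_assoc, hJD, k2, ← Matrix.mul_assoc, k1, Matrix.smul_mul, Matrix.mul_assoc, hJD]
    calc D * (a : Matrix d d F).map σ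
        = ((↑Ju⁻¹ : Matrix d d F) * J) * (D * (a : Matrix d d F).map σ) := by
          rw [hJinv, Matrix.one_mul]
      _ = (↑Ju⁻¹ : Matrix d d F) * (J * (D * (a : Matrix d d F).map σ)) := by
          rw [Matrix.mul_assoc]
      _ = (↑Ju⁻¹ : Matrix d d F) * (J * ((a : Matrix d d F).map σ * D)) := by rw [hJ2]
      _ = ((↑Ju⁻¹ : Matrix d d F) * J) * ((a : Matrix d d F).map σ * D) := by
          rw [Matrix.mul_assoc]
      _ = (a : Matrix d d F).map σ * D := by rw [hJinv, Matrix.one_mul]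
  have hσσ : ∀ A : Matrix d d F, (A.map σ).map σ.symm = A := by
    intro A; ext i j; simp
  have hσσ' : ∀ A : Matrix d d F, (A.map σ.symm).map σ = A := by
    intro A; ext i j; simp
  have hmapmul' : ∀ A B : Matrix d d F, (A * B).map σ.symm = A.map σ.symm * B.map σ.symm :=
    fun A B => Matrix.map_mul
  obtain ⟨c, hc⟩ := hcomm (D.map σ.symm) (by
    intro a ha
    have := congrArg (fun A : Matrix d d F => A.map σ.symm) (hDcomm a ha)
    simp only [hmapmul', hσσ] at this
    exact this)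
  refine ⟨σ c, ?_⟩
  have hDc : D = (σ c) • (1 : Matrix d d F) := by
    have := congrArg (fun A : Matrix d d F => A.map σ) hc
    simp only [hσσ'] at this
    rw [this]
    ext i j
    by_cases hij : i = j
    · subst hij
      simp
    · simp [hij]
  rw [← hJD, hDc, Matrix.mul_smul, Matrix.mul_one]

end Irr

section Kron

variable {d e : Type} [Fintype d] [DecidableEq d] [Fintype e] [DecidableEq e]

/-- the `(k, l)` block of a matrix on `d × e` -/
def blockOf (J : Matrix (d × e) (d × e) F) (k l : e) : Matrix d d F := fun i j => J (i, k) (j, l)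

omit [DecidableEq d] in
theorem block_sim (σ : F ≃+* F) (a : Matrix d d F) (J : Matrix (d × e) (d × e) F) (k l : e) :
    blockOf ((a ⊗ₖ (1 : Matrix e e F))ᵀ * J * (a ⊗ₖ (1 : Matrix e e F)).map σ) k l =
      aᵀ * blockOf J k l * a.map σ := by
  ext i j
  simp only [blockOf, Matrix.mul_apply, Matrix.transpose_apply, Matrix.map_apply,
    Fintype.sum_prod_type, Matrix.kronecker_apply, Matrix.one_apply, mul_ite, mul_one, mul_zero,
    ite_mul, zero_mul, Finset.sum_ite_eq', Finset.mem_univ, if_true, apply_ite (σ : F → F),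
    map_zero]

omit [DecidableEq d] [DecidableEq e] [Fintype d] [Fintype e] in
theorem blockOf_smul (c : F) (J : Matrix (d × e) (d × e) F) (k l : e) :
    blockOf (c • J) k l = c • blockOf J k l := rfl

/-- **Invariant Gram matrices in tensor normal form.** -/
theorem exists_kronecker_gram [Nonempty d] [Nonempty e] (σ : F ≃+* F) (S : Set (GL d F))
    (hirr : ActsAbsolutelyIrreducibly ((fun a : GL d F => (a : Matrix d d F)) '' S))
    (μ : GL d F → F) (J : Matrix (d × e) (d × e) F) (hJ : IsUnit J)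
    (hfix : ∀ a ∈ S, ((a : Matrix d d F) ⊗ₖ (1 : Matrix e e F))ᵀ * J *
      ((a : Matrix d d F) ⊗ₖ (1 : Matrix e e F)).map σ = μ a • J) :
    ∃ (G₁ : Matrix d d F) (G₂ : Matrix e e F), IsUnit G₁ ∧ IsUnit G₂ ∧ J = G₁ ⊗ₖ G₂ ∧
      ∀ a ∈ S, (a : Matrix d d F)ᵀ * G₁ * (a : Matrix d d F).map σ = μ a • G₁ := by
  have hblock : ∀ k l, ∀ a ∈ S, (a : Matrix d d F)ᵀ * blockOf J k l * (a : Matrix d d F).map σ =
      μ a • blockOf J k l := by
    intro k l a ha
    rw [← block_sim, hfix a ha, blockOf_smul]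
  have hJ0 : J ≠ 0 := hJ.ne_zero
  obtain ⟨k₀, l₀, hkl⟩ : ∃ k l, blockOf J k l ≠ 0 := by
    by_contra hno
    push Not at hno
    apply hJ0
    ext ⟨i, k⟩ ⟨j, l⟩
    exact congrFun (congrFun (hno k l) i) j
  have hG₁ := isUnit_of_sim_invariant σ S hirr.1 μ _ hkl (hblock k₀ l₀)
  have hcomm : ∀ M : Matrix d d F,
      (∀ a ∈ S, M * (a : Matrix d d F) = (a : Matrix d d F) * M) →
      ∃ c : F, M = c • (1 : Matrix d d F) := by
    intro M hM
    apply hirr.2 M
    rintro _ ⟨a, ha, rfl⟩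
    exact hM a ha
  have hprop : ∀ k l, ∃ c : F, blockOf J k l = c • blockOf J k₀ l₀ := fun k l =>
    gram_proportional_sim σ S hcomm μ _ _ hG₁ (hblock k₀ l₀) (hblock k l)
  choose c hc using hprop
  have hJeq : J = blockOf J k₀ l₀ ⊗ₖ (Matrix.of c) := by
    ext ⟨i, k⟩ ⟨j, l⟩
    rw [Matrix.kronecker_apply, Matrix.of_apply]
    have := congrFun (congrFun (hc k l) i) j
    simp only [Matrix.smul_apply, smul_eq_mul] at this
    show blockOf J k l i j = _
    rw [this, mul_comm]
  refine ⟨blockOf J k₀ l₀, Matrix.of c, hG₁, ?_, hJeq, hblock k₀ l₀⟩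
  rw [Matrix.isUnit_iff_isUnit_det] at hJ ⊢
  rw [hJeq, Matrix.det_kronecker] at hJ
  have h2 := (IsUnit.mul_iff.mp hJ).2
  exact (isUnit_pow_iff Fintype.card_ne_zero).mp h2

omit [Fintype d] [DecidableEq d] [Fintype e] [DecidableEq e] in
/-- uniqueness of a Kronecker factorisation up to a scalar -/
theorem kronecker_factor_unique {A A' : Matrix d d F} {B B' : Matrix e e F} (hA : A ≠ 0)
    (hB' : B' ≠ 0) (h : A ⊗ₖ B = A' ⊗ₖ B') : ∃ c : F, A' = c • A ∧ B = c • B' := by
  obtain ⟨i₀, j₀, hij⟩ : ∃ i j, A i j ≠ 0 := by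
    by_contra hno
    push Not at hno
    exact hA (Matrix.ext hno)
  obtain ⟨k₀, l₀, hkl⟩ : ∃ k l, B' k l ≠ 0 := by
    by_contra hno
    push Not at hno
    exact hB' (Matrix.ext hno)
  have hent : ∀ i j k l, A i j * B k l = A' i j * B' k l := by
    intro i j k l
    have := congrFun (congrFun h (i, k)) (j, l)
    simpa [Matrix.kronecker_apply] using this
  refine ⟨A' i₀ j₀ / A i₀ j₀, ?_, ?_⟩
  · have hBc : B k₀ l₀ = A' i₀ j₀ / A i₀ j₀ * B' k₀ l₀ := by
      have := hent i₀ j₀ k₀ l₀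
      field_simp
      linear_combination this
    ext i j
    have h1 := hent i j k₀ l₀
    rw [hBc] at h1
    simp only [Matrix.smul_apply, smul_eq_mul]
    have h2 : (A' i j - A' i₀ j₀ / A i₀ j₀ * A i j) * B' k₀ l₀ = 0 := by
      linear_combination -h1
    have h3 := (mul_eq_zero.mp h2).resolve_right hkl
    exact sub_eq_zero.mp h3
  · ext k l
    have := hent i₀ j₀ k l
    simp only [Matrix.smul_apply, smul_eq_mul]
    field_simp
    linear_combination this

omit [Fintype d] [DecidableEq d] [Fintype e] [DecidableEq e] in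
/-- `σ`-transpose of a Kronecker product -/
theorem map_transpose_kronecker (σ : F ≃+* F) (G₁ : Matrix d d F) (G₂ : Matrix e e F) :
    ((G₁ ⊗ₖ G₂).map σ)ᵀ = (G₁.map σ)ᵀ ⊗ₖ (G₂.map σ)ᵀ := by
  ext ⟨i, k⟩ ⟨j, l⟩
  simp

omit [Fintype d] [DecidableEq d] [Fintype e] [DecidableEq e] in
/-- if `G₁ ⊗ G₂` is `ε`-hermitian then `G₁` is `c`-hermitian and `G₂` is `ε/c`-hermitian -/
theorem kronecker_hermitian_split (σ : F ≃+* F) {G₁ : Matrix d d F} {G₂ : Matrix e e F}
    (hG₁ : G₁ ≠ 0) (hG₂ : G₂ ≠ 0) (ε : F)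
    (h : ((G₁ ⊗ₖ G₂).map σ)ᵀ = ε • (G₁ ⊗ₖ G₂)) :
    ∃ c : F, (G₁.map σ)ᵀ = c • G₁ ∧ ε • G₂ = c • (G₂.map σ)ᵀ := by
  have hB' : (G₂.map σ)ᵀ ≠ 0 := by
    intro h0
    apply hG₂
    ext k l
    have := congrFun (congrFun h0 l) k
    simpa using this
  apply kronecker_factor_unique hG₁ hB'
  rw [← map_transpose_kronecker, h, Matrix.kronecker_smul]

end Kron

end Cfsg.Agent.Lib.Helper37.Asch
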