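import Mathlib
import Cfsg.Prelude.Def_GeometricClasses
import Cfsg.Agent.Lib.Helper99.AschDefs
import Cfsg.Agent.Lib.Helper37.Asch.KronGram

/-!
# ASCH form kit (helper37): tensor normal form and invariant forms

`N` in tensor normal form `B N B⁻¹ = {a ⊗ 1}` and inside the similarity group of a non-degenerate
sesquilinear form `f`: in the coordinates given by `B`, `idx` the Gram matrix of `f` is a Kronecker
product `G₁ ⊗ G₂` of invertible matrices, and `G₁` is similarity-invariant under the `a`'s.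
-/

set_option autoImplicit false

namespace Cfsg.Agent.Lib.Helper37.Asch

open Cfsg Cfsg.Geo Matrix Cfsg.Agent.Lib.Helper99.Asch
open scoped Kronecker MatrixGroups

variable {ι : Type} [Fintype ι] [DecidableEq ι] {F : Type*} [Field F]
variable {σ : F ≃+* F} {f : (ι → F) → (ι → F) → F}

/-- similarity version of `gram_of_fixes` -/
theorem IsSesqForm.gram_of_sim (hf : IsSesqForm σ f) {A : Matrix ι ι F} {c : F}
    (h : ∀ u v, f (A *ᵥ u) (A *ᵥ v) = c * f u v) : Aᵀ * gram f * A.map σ = c • gram f := by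
  ext i j
  have h1 := h (Pi.single i 1) (Pi.single j 1)
  rw [hf.apply_mulVec, IsSesqForm.map_single, IsSesqForm.single_dot_mulVec_single] at h1
  rw [h1]
  rfl

omit [DecidableEq ι] in
/-- `formOf` agrees with the frozen `formOfGram` -/
theorem formOf_eq_formOfGram (σ : F ≃+* F) (J : Matrix ι ι F) (x y : ι → F) :
    formOf σ J x y = formOfGram (σ : F → F) J x y := by
  unfold formOf formOfGram
  simp only [dotProduct, mulVec, Finset.mul_sum, mul_assoc]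

variable {κ : Type} [Fintype κ] [DecidableEq κ]

/-- the form transported along a base change `P` and a bijection of index sets -/
def transportForm (f : (ι → F) → (ι → F) → F) (idx : ι ≃ κ) (P : Matrix ι ι F)
    (x y : κ → F) : F :=
  f (P *ᵥ (x ∘ idx)) (P *ᵥ (y ∘ idx))

omit [DecidableEq ι] [Fintype κ] [DecidableEq κ] in
theorem isSesq_transportForm (hf : IsSesqForm σ f) (idx : ι ≃ κ) (P : Matrix ι ι F) :
    IsSesqForm σ (transportForm f idx P) := by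
  refine ⟨fun x y v => ?_, fun c x v => ?_, fun v x y => ?_, fun c v x => ?_⟩
  · show f (P *ᵥ ((x + y) ∘ idx)) _ = _
    have : (x + y) ∘ idx = x ∘ idx + y ∘ idx := rfl
    rw [this, Matrix.mulVec_add, hf.add_left]; rfl
  · show f (P *ᵥ ((c • x) ∘ idx)) _ = _
    have : (c • x) ∘ idx = c • (x ∘ idx) := rfl
    rw [this, Matrix.mulVec_smul, hf.smul_left]; rfl
  · show f _ (P *ᵥ ((x + y) ∘ idx)) = _
    have : (x + y) ∘ idx = x ∘ idx + y ∘ idx := rfl
    rw [this, Matrix.mulVec_add, hf.add_right]; rfl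
  · show f _ (P *ᵥ ((c • x) ∘ idx)) = _
    have : (c • x) ∘ idx = c • (x ∘ idx) := rfl
    rw [this, Matrix.mulVec_smul, hf.smul_right]; rfl

omit [Fintype κ] [DecidableEq κ] in
theorem nondegenerate_transportForm (hnd : IsNondegenerateForm f) (idx : ι ≃ κ) (P : GL ι F) :
    IsNondegenerateForm (transportForm f idx (P : Matrix ι ι F)) := by
  have hback : ∀ u : ι → F, ∃ x : κ → F, (P : Matrix ι ι F) *ᵥ (x ∘ idx) = u := by
    intro u
    refine ⟨(((P⁻¹ : GL ι F) : Matrix ι ι F) *ᵥ u) ∘ idx.symm, ?_⟩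
    have : ((((P⁻¹ : GL ι F) : Matrix ι ι F) *ᵥ u) ∘ idx.symm) ∘ idx =
        ((P⁻¹ : GL ι F) : Matrix ι ι F) *ᵥ u := by
      ext i; simp
    rw [this, Matrix.mulVec_mulVec, ← Units.val_mul, mul_inv_cancel, Units.val_one,
      Matrix.one_mulVec]
  intro v hv
  have hv' : (P : Matrix ι ι F) *ᵥ (v ∘ idx) ≠ 0 := by
    intro h0
    apply hv
    have h1 : ((P⁻¹ : GL ι F) : Matrix ι ι F) *ᵥ ((P : Matrix ι ι F) *ᵥ (v ∘ idx)) = 0 := by
      rw [h0, Matrix.mulVec_zero]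
    rw [Matrix.mulVec_mulVec, ← Units.val_mul, inv_mul_cancel, Units.val_one,
      Matrix.one_mulVec] at h1
    ext k
    have := congrFun h1 (idx.symm k)
    simpa using this
  obtain ⟨⟨u, hu⟩, ⟨u', hu'⟩⟩ := hnd _ hv'
  obtain ⟨x, rfl⟩ := hback u
  obtain ⟨x', rfl⟩ := hback u'
  exact ⟨⟨x, hu⟩, ⟨x', hu'⟩⟩

omit [DecidableEq ι] [DecidableEq κ] in
theorem reindex_mulVec_comp (idx : ι ≃ κ) (M : Matrix κ κ F) (x : κ → F) :
    (Matrix.reindex idx.symm idx.symm M) *ᵥ (x ∘ idx) = (M *ᵥ x) ∘ idx := by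
  rw [Matrix.reindex_apply, Matrix.submatrix_mulVec_equiv]
  simp [Function.comp_assoc]

/-- **Tensor normal form and invariant forms.** -/
theorem tensor_gram_of_tensorNF (hf : IsSesqForm σ f) (hnd : IsNondegenerateForm f)
    (N : Subgroup (GL ι F)) (hNsim : N ≤ similarityGroup f) (d e : ℕ) (hd : 0 < d) (he : 0 < e)
    (idx : ι ≃ Fin d × Fin e) (B : GL ι F) (hNF : TensorNF N d e idx B) :
    ∃ (G₁ : Matrix (Fin d) (Fin d) F) (G₂ : Matrix (Fin e) (Fin e) F), IsUnit G₁ ∧ IsUnit G₂ ∧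
      (∀ x y : Fin d × Fin e → F,
        f (((B⁻¹ : GL ι F) : Matrix ι ι F) *ᵥ (x ∘ idx)) (((B⁻¹ : GL ι F) : Matrix ι ι F) *ᵥ (y ∘ idx)) =
          formOfGram (σ : F → F) (G₁ ⊗ₖ G₂) x y) ∧
      (∀ x ∈ N, ∀ a : Matrix (Fin d) (Fin d) F,
        ((B * x * B⁻¹ : GL ι F) : Matrix ι ι F) =
          Matrix.reindex idx.symm idx.symm (a ⊗ₖ (1 : Matrix (Fin e) (Fin e) F)) →
        ∀ c : F, (∀ u v, f ((x : Matrix ι ι F) *ᵥ u) ((x : Matrix ι ι F) *ᵥ v) = c * f u v) →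
          aᵀ * G₁ * a.map σ = c • G₁) := by
  classical
  have : Nonempty (Fin d) := ⟨⟨0, hd⟩⟩
  have : Nonempty (Fin e) := ⟨⟨0, he⟩⟩
  set P : Matrix ι ι F := ((B⁻¹ : GL ι F) : Matrix ι ι F) with hP
  set f' := transportForm f idx P with hf'def
  have hf' : IsSesqForm σ f' := isSesq_transportForm hf idx P
  have hnd' : IsNondegenerateForm f' := nondegenerate_transportForm hnd idx B⁻¹
  -- the action of `a ⊗ 1`
  have hact : ∀ x ∈ N, ∀ a : Matrix (Fin d) (Fin d) F,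
      ((B * x * B⁻¹ : GL ι F) : Matrix ι ι F) =
        Matrix.reindex idx.symm idx.symm (a ⊗ₖ (1 : Matrix (Fin e) (Fin e) F)) →
      ∀ c : F, (∀ u v, f ((x : Matrix ι ι F) *ᵥ u) ((x : Matrix ι ι F) *ᵥ v) = c * f u v) →
      ∀ u v, f' ((a ⊗ₖ (1 : Matrix (Fin e) (Fin e) F)) *ᵥ u)
        ((a ⊗ₖ (1 : Matrix (Fin e) (Fin e) F)) *ᵥ v) = c * f' u v := by
    intro x hx a hxa c hc u v
    have key : ∀ w : Fin d × Fin e → F,
        P *ᵥ (((a ⊗ₖ (1 : Matrix (Fin e) (Fin e) F)) *ᵥ w) ∘ idx) =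
          (x : Matrix ι ι F) *ᵥ (P *ᵥ (w ∘ idx)) := by
      intro w
      rw [← reindex_mulVec_comp, ← hxa, Matrix.mulVec_mulVec, Matrix.mulVec_mulVec, hP,
        ← Units.val_mul, ← Units.val_mul]
      congr 2
      group
    show f _ _ = c * f _ _
    rw [key, key, hc]
  -- the set of the `a`'s
  let S : Set (GL (Fin d) F) := {a | ∃ x ∈ N, ((B * x * B⁻¹ : GL ι F) : Matrix ι ι F) =
    Matrix.reindex idx.symm idx.symm ((a : Matrix (Fin d) (Fin d) F) ⊗ₖ (1 : Matrix (Fin e) (Fin e) F))}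
  have hSset : (fun a : GL (Fin d) F => (a : Matrix (Fin d) (Fin d) F)) '' S =
      {a : Matrix (Fin d) (Fin d) F | ∃ x ∈ N, ((B * x * B⁻¹ : GL ι F) : Matrix ι ι F) =
        Matrix.reindex idx.symm idx.symm (a ⊗ₖ (1 : Matrix (Fin e) (Fin e) F))} := by
    ext a
    constructor
    · rintro ⟨a', ⟨x, hx, hxa⟩, rfl⟩
      exact ⟨x, hx, hxa⟩
    · rintro ⟨x, hx, hxa⟩
      obtain ⟨a', ha'⟩ := hNF.1 x hx
      refine ⟨a', ⟨x, hx, ha'⟩, ?_⟩
      have h1 : (a' : Matrix (Fin d) (Fin d) F) ⊗ₖ (1 : Matrix (Fin e) (Fin e) F) =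
          a ⊗ₖ (1 : Matrix (Fin e) (Fin e) F) := by
        have := ha'.symm.trans hxa
        exact (Matrix.reindex idx.symm idx.symm).injective this
      ext i j
      have := congrFun (congrFun h1 (i, ⟨0, he⟩)) (j, ⟨0, he⟩)
      simpa [Matrix.kronecker_apply] using this
  have hirr : ActsAbsolutelyIrreducibly
      ((fun a : GL (Fin d) F => (a : Matrix (Fin d) (Fin d) F)) '' S) := by
    rw [hSset]; exact hNF.2
  -- multipliers
  have hmult : ∀ a : GL (Fin d) F, a ∈ S → ∃ c : F, ∀ u v,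
      f' (((a : Matrix (Fin d) (Fin d) F) ⊗ₖ (1 : Matrix (Fin e) (Fin e) F)) *ᵥ u)
        (((a : Matrix (Fin d) (Fin d) F) ⊗ₖ (1 : Matrix (Fin e) (Fin e) F)) *ᵥ v) = c * f' u v := by
    rintro a ⟨x, hx, hxa⟩
    obtain ⟨c, hc⟩ := hNsim hx
    exact ⟨c, hact x hx _ hxa c hc⟩
  let μ : GL (Fin d) F → F := fun a => if h : a ∈ S then Classical.choose (hmult a h) else 0
  have hμ : ∀ a ∈ S, ((a : Matrix (Fin d) (Fin d) F) ⊗ₖ (1 : Matrix (Fin e) (Fin e) F))ᵀ * gram f' *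
      ((a : Matrix (Fin d) (Fin d) F) ⊗ₖ (1 : Matrix (Fin e) (Fin e) F)).map σ = μ a • gram f' := by
    intro a ha
    apply hf'.gram_of_sim
    simp only [μ, dif_pos ha]
    exact Classical.choose_spec (hmult a ha)
  obtain ⟨G₁, G₂, hG₁, hG₂, hJ, -⟩ :=
    exists_kronecker_gram σ S hirr μ (gram f') (hf'.isUnit_gram hnd') hμ
  refine ⟨G₁, G₂, hG₁, hG₂, ?_, ?_⟩
  · intro x y
    show f' x y = _
    rw [hf'.eq_gram, hJ, ← formOf_eq_formOfGram]
    rfl
  · intro x hx a hxa c hc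
    have h1 := hf'.gram_of_sim (hact x hx a hxa c hc)
    rw [hJ] at h1
    -- `(a ⊗ 1)ᵀ (G₁ ⊗ G₂) σ(a ⊗ 1) = (aᵀ G₁ σ(a)) ⊗ G₂`
    have h2 : (a ⊗ₖ (1 : Matrix (Fin e) (Fin e) F))ᵀ * (G₁ ⊗ₖ G₂) *
        (a ⊗ₖ (1 : Matrix (Fin e) (Fin e) F)).map σ = (aᵀ * G₁ * a.map σ) ⊗ₖ G₂ := by
      have h3 : (a ⊗ₖ (1 : Matrix (Fin e) (Fin e) F)).map σ =
          a.map σ ⊗ₖ (1 : Matrix (Fin e) (Fin e) F) := by
        ext ⟨i, k⟩ ⟨j, l⟩
        simp [Matrix.one_apply, apply_ite (σ : F → F)]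
      have h3' : (a ⊗ₖ (1 : Matrix (Fin e) (Fin e) F))ᵀ = aᵀ ⊗ₖ (1 : Matrix (Fin e) (Fin e) F) := by
        rw [← Matrix.kroneckerMap_transpose, Matrix.transpose_one]
      rw [h3, h3', ← Matrix.mul_kronecker_mul, ← Matrix.mul_kronecker_mul, Matrix.one_mul,
        Matrix.mul_one]
    rw [h2] at h1
    -- cancel `G₂`
    obtain ⟨k, l, hkl⟩ : ∃ k l, G₂ k l ≠ 0 := by
      by_contra hno
      push Not at hno
      have h0 : G₂ = 0 := Matrix.ext hno
      rw [h0] at hG₂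
      exact hG₂.ne_zero rfl
    ext i j
    have h4 := congrFun (congrFun h1 (i, k)) (j, l)
    simp only [Matrix.kronecker_apply, Matrix.smul_apply, smul_eq_mul] at h4
    simp only [Matrix.smul_apply, smul_eq_mul]
    have h5 : ((aᵀ * G₁ * a.map σ) i j - c * G₁ i j) * G₂ k l = 0 := by
      linear_combination h4
    exact sub_eq_zero.mp ((mul_eq_zero.mp h5).resolve_right hkl)

end Cfsg.Agent.Lib.Helper37.Asch
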