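import Mathlib
import Cfsg.Prelude.Def_GeometricClasses
import Cfsg.Agent.Lib.Helper37.Asch.FormKit

/-!
# ASCH form kit (helper37): the perp pairing of a decomposition

`V = ⨁ D i` over a finite field, `f` a non-degenerate reflexive sesquilinear form such that the
right perp of every `D i` is a sum of members of the decomposition.  Then the members are paired
by an involution `τ`: `D i ⟂ D j` unless `j = τ i`, and `D i`, `D (τ i)` are perfectly paired.
-/

set_option autoImplicit false

namespace Cfsg.Agent.Lib.Helper37.Asch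

open Cfsg Cfsg.Geo Module

variable {ι : Type} [Fintype ι] [DecidableEq ι] {F : Type*} [Field F]

/-- the right perp `{v | f w v = 0 for all w ∈ W}` of a subspace -/
def rperp {σ : F ≃+* F} {f : (ι → F) → (ι → F) → F} (hf : IsSesqForm σ f)
    (W : Submodule F (ι → F)) : Submodule F (ι → F) where
  carrier := {v | ∀ w ∈ W, f w v = 0}
  add_mem' := by
    intro a b ha hb w hw
    rw [hf.add_right, ha w hw, hb w hw, add_zero]
  zero_mem' := fun w _ => hf.zero_right w
  smul_mem' := by
    intro c v hv w hw
    rw [hf.smul_right, hv w hw, mul_zero]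

omit [Fintype ι] [DecidableEq ι] in
theorem mem_rperp {σ : F ≃+* F} {f : (ι → F) → (ι → F) → F} (hf : IsSesqForm σ f)
    (W : Submodule F (ι → F)) (v : ι → F) : v ∈ rperp hf W ↔ ∀ w ∈ W, f w v = 0 := Iff.rfl

variable [Fintype F]

omit [DecidableEq ι] in
/-- **The perp pairing.** -/
theorem perp_pairing {σ : F ≃+* F} {f : (ι → F) → (ι → F) → F} (hf : IsSesqForm σ f)
    (hnd : IsNondegenerateForm f) (hrefl : ∀ u v, f u v = 0 → f v u = 0)
    {t : ℕ} (D : Fin t → Submodule F (ι → F)) (hne : ∀ i, D i ≠ ⊥) (hind : iSupIndep D)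
    (htop : iSup D = ⊤)
    (hperp : ∀ i, ∃ K : Set (Fin t), rperp hf (D i) = ⨆ j ∈ K, D j) :
    ∃ τ : Equiv.Perm (Fin t), (∀ i, τ (τ i) = i) ∧
      (∀ i j, j ≠ τ i → AreOrthogonalFor f (D i) (D j)) ∧
      (∀ i, ∀ w ∈ D i, w ≠ 0 → ∃ x ∈ D (τ i), f x w ≠ 0) := by
  classical
  -- the relation "not orthogonal"
  let R : Fin t → Fin t → Prop := fun i j => ¬ D j ≤ rperp hf (D i)
  have hR : ∀ i j, R i j ↔ ∃ u ∈ D i, ∃ v ∈ D j, f u v ≠ 0 := by
    intro i j
    constructor
    · intro h
      by_contra hno
      push Not at hno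
      exact h fun v hv u hu => hno u hu v hv
    · rintro ⟨u, hu, v, hv, huv⟩ h
      exact huv (h hv u hu)
  have hRsymm : ∀ i j, R i j → R j i := by
    intro i j h
    obtain ⟨u, hu, v, hv, huv⟩ := (hR i j).mp h
    exact (hR j i).mpr ⟨v, hv, u, hu, fun h0 => huv (hrefl v u h0)⟩
  -- Step A
  have hle : ∀ i j, R i j → rperp hf (D i) ≤ ⨆ k, ⨆ (_ : k ≠ j), D k := by
    intro i j h
    obtain ⟨K, hK⟩ := hperp i
    have hjK : j ∉ K := by
      intro hj
      apply h
      rw [hK]
      exact le_biSup D hj
    rw [hK]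
    exact biSup_mono fun k hk => fun hkj => hjK (hkj ▸ hk)
  have hA : ∀ i j, R i j → ∀ v ∈ D j, v ∈ rperp hf (D i) → v = 0 := by
    intro i j h v hv hv'
    have := (hind j).le_bot ⟨hv, hle i j h hv'⟩
    simpa using this
  -- the restricted dual maps
  let φ : ∀ i j, D j → Module.Dual F (D i) := fun i j v =>
    { toFun := fun u => f (u : ι → F) (v : ι → F)
      map_add' := fun a b => hf.add_left _ _ _
      map_smul' := fun c a => by simp only [Submodule.coe_smul, RingHom.id_apply]; exact hf.smul_left _ _ _ }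
  have hφinj : ∀ i j, R i j → Function.Injective (φ i j) := by
    intro i j h v v' hvv
    have h1 : ((v : ι → F) - (v' : ι → F)) ∈ rperp hf (D i) := by
      intro u hu
      have := LinearMap.congr_fun hvv ⟨u, hu⟩
      have h2 : f u (v : ι → F) = f u (v' : ι → F) := this
      have h3 : f u ((v : ι → F) - (v' : ι → F)) = f u v - f u v' := by
        have h4 := hf.add_right u ((v : ι → F) - (v' : ι → F)) (v' : ι → F)
        rw [sub_add_cancel] at h4
        rw [h4]; ring
      rw [h3, h2, sub_self]
    have h5 := hA i j h _ ((D j).sub_mem v.2 v'.2) h1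
    exact Subtype.ext (sub_eq_zero.mp h5)
  -- the other side (`f` is linear in the first argument)
  let ψ : ∀ i j, D i → Module.Dual F (D j) := fun i j u =>
    { toFun := fun v => f (v : ι → F) (u : ι → F)
      map_add' := fun a b => hf.add_left _ _ _
      map_smul' := fun c a => by simp only [Submodule.coe_smul, RingHom.id_apply]; exact hf.smul_left _ _ _ }
  have hcard : ∀ i j, R i j → Nat.card (D j) ≤ Nat.card (D i) := by
    intro i j h
    have : Finite (Module.Dual F (D i)) := Module.finite_of_finite F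
    have h1 := Nat.card_le_card_of_injective _ (hφinj i j h)
    have h2 : Nat.card (Module.Dual F (D i)) = Nat.card (D i) := by
      rw [Module.natCard_eq_pow_finrank (K := F) (V := Module.Dual F (D i)),
        Module.natCard_eq_pow_finrank (K := F) (V := D i), Subspace.dual_finrank_eq]
    omega
  have hcardeq : ∀ i j, R i j → Nat.card (D j) = Nat.card (D i) := fun i j h =>
    le_antisymm (hcard i j h) (hcard j i (hRsymm i j h))
  have hφsurj : ∀ i j, R i j → Function.Surjective (φ i j) := by
    intro i j h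
    have hfin : Finite (D j) := inferInstance
    have : Finite (Module.Dual F (D i)) := Module.finite_of_finite F
    have h2 : Nat.card (Module.Dual F (D i)) = Nat.card (D j) := by
      rw [Module.natCard_eq_pow_finrank (K := F) (V := Module.Dual F (D i)),
        Subspace.dual_finrank_eq, ← Module.natCard_eq_pow_finrank (K := F) (V := D i),
        hcardeq i j h]
    exact ((Nat.bijective_iff_injective_and_card (φ i j)).mpr ⟨hφinj i j h, h2.symm⟩).2
  -- uniqueness of the partner
  have huniq : ∀ i j k, R i j → R i k → j = k := by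
    intro i j k hj hk
    by_contra hjk
    obtain ⟨v, hv, hv0⟩ := (Submodule.ne_bot_iff _).mp (hne j)
    obtain ⟨v', hv'⟩ := hφsurj i k hk (φ i j ⟨v, hv⟩)
    have h1 : (v - (v' : ι → F)) ∈ rperp hf (D i) := by
      intro u hu
      have h2 : f u (v' : ι → F) = f u v := LinearMap.congr_fun hv' ⟨u, hu⟩
      have h3 : f u (v - (v' : ι → F)) = f u v - f u v' := by
        have h4 := hf.add_right u (v - (v' : ι → F)) (v' : ι → F)
        rw [sub_add_cancel] at h4
        rw [h4]; ring
      rw [h3, h2, sub_self]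
    -- `v = v' + (v - v')` lies in the sum of the other components
    have h6 : v ∈ ⨆ l, ⨆ (_ : l ≠ j), D l := by
      have h7 : v = (v' : ι → F) + (v - (v' : ι → F)) := by abel
      rw [h7]
      apply Submodule.add_mem
      · exact (le_biSup D (show k ≠ j from fun h => hjk h.symm)) v'.2
      · exact hle i j hj h1
    have := (hind j).le_bot ⟨hv, h6⟩
    exact hv0 (by simpa using this)
  -- existence of a partner
  have hex : ∀ i, ∃ j, R i j := by
    intro i
    by_contra hno
    push Not at hno
    obtain ⟨w, hw, hw0⟩ := (Submodule.ne_bot_iff _).mp (hne i)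
    obtain ⟨-, ⟨x, hx⟩⟩ := hnd w hw0
    apply hx
    have htop' : rperp hf (D i) = ⊤ := by
      rw [eq_top_iff, ← htop]
      exact iSup_le fun j => not_not.mp (hno j)
    have hxm : x ∈ rperp hf (D i) := by rw [htop']; exact Submodule.mem_top
    exact hxm w hw
  choose τ₀ hτ₀ using hex
  have hinvol : Function.Involutive τ₀ := fun i =>
    huniq (τ₀ i) _ _ (hτ₀ (τ₀ i)) (hRsymm _ _ (hτ₀ i))
  refine ⟨hinvol.toPerm τ₀, fun i => hinvol i, ?_, ?_⟩
  · intro i j hj u hu v hv
    by_contra h0
    apply hj
    exact huniq i j (τ₀ i) ((hR i j).mpr ⟨u, hu, v, hv, h0⟩) (hτ₀ i)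
  · intro i w hw hw0
    by_contra hno
    push Not at hno
    apply hw0
    exact hA (τ₀ i) i (hRsymm _ _ (hτ₀ i)) w hw (fun x hx => hno x hx)

end Cfsg.Agent.Lib.Helper37.Asch
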