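import Mathlib
import Cfsg.Prelude.Def_GeometricClasses
import Cfsg.Agent.Lib.Helper99.AschDefs
import Cfsg.Agent.Lib.Helper80.AschIso
import Cfsg.Agent.Lib.Helper37.Asch.FormKit
import Cfsg.Agent.Lib.Helper37.Asch.PerpPairing

/-!
# ASCH form kit (helper37): form-aware Clifford theorem

`H` irreducible, `N` normalised by `H`, `N` and `H` inside the similarity group of a non-degenerate
reflexive sesquilinear form `f` (finite field).  Either `F^ι` is isotypic over `endAlg N`, or the
isotypic components `D i` form a system of imprimitivity for `H` and are paired by an involution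
`τ`: `D i ⟂ D j` unless `j = τ i`, the pairing between `D i` and `D (τ i)` is perfect, and `τ` is
the identity or fixed-point-free.
-/

set_option autoImplicit false

namespace Cfsg.Agent.Lib.Helper37.Asch

open Cfsg.Agent.Lib.Helper80.AschIso

section Generic
variable {F V : Type*} [Field F] [AddCommGroup V] [Module F V]
variable {A : Subalgebra F (Module.End F V)}

/-- helper80's `generic_main` with one more clause: a subspace invariant under `A` and its
commutant is a sum of components. -/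
theorem generic_main_fi [FiniteDimensional F V] (𝓗 : Set (V ≃ₗ[F] V))
    (hrefl : LinearEquiv.refl F V ∈ 𝓗)
    (hsymm : ∀ φ ∈ 𝓗, φ.symm ∈ 𝓗) (htrans : ∀ φ ∈ 𝓗, ∀ ψ ∈ 𝓗, φ.trans ψ ∈ 𝓗)
    (hnorm : ∀ φ ∈ 𝓗, NormA A φ)
    (hirr : ∀ W : Submodule F V, (∀ φ ∈ 𝓗, W.map (φ : V →ₗ[F] V) ≤ W) → W = ⊥ ∨ W = ⊤)
    [IsSemisimpleModule A V] :
    IsIsotypic A V ∨
    ∃ (t : ℕ) (D : Fin t → Submodule F V), 2 ≤ t ∧ (∀ i, D i ≠ ⊥) ∧ iSupIndep D ∧ iSup D = ⊤ ∧
      (∀ φ ∈ 𝓗, ∃ σ : Equiv.Perm (Fin t), ∀ i, (D i).map (φ : V →ₗ[F] V) = D (σ i)) ∧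
      (∀ i j, ∃ φ ∈ 𝓗, (D i).map (φ : V →ₗ[F] V) = D j) ∧
      (∀ f : V →ₗ[F] V, (f ∈ A ∨ ∀ a ∈ A, f ∘ₗ a = a ∘ₗ f) → ∀ i, (D i).map f ≤ D i) ∧
      (∀ W : Submodule F V,
        (∀ f : V →ₗ[F] V, (f ∈ A ∨ ∀ a ∈ A, f ∘ₗ a = a ∘ₗ f) → W.map f ≤ W) →
        ∃ K : Set (Fin t), W = ⨆ j ∈ K, D j) := by
  classical
  have hnoeth : IsNoetherian A V := isNoetherian_of_tower F inferInstance
  have hfin : Finite (isotypicComponents A V) := inferInstance
  by_cases hcard : Nat.card (isotypicComponents A V) ≤ 1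
  · left
    exact isIsotypic_of_subsingleton (Finite.card_le_one_iff_subsingleton.mp hcard)
  · right
    let e : isotypicComponents A V ≃ Fin (Nat.card (isotypicComponents A V)) := Finite.equivFin _
    have hc : ∀ i, ((e.symm i : isotypicComponents A V) : Submodule A V) ∈ isotypicComponents A V :=
      fun i => (e.symm i).2
    have hsymmN : ∀ φ ∈ 𝓗, NormA A φ.symm := fun φ hφ => hnorm _ (hsymm φ hφ)
    have hnorm' : ∀ φ ∈ 𝓗, NormA A φ.symm.symm := fun φ hφ => by
      rw [LinearEquiv.symm_symm]; exact hnorm φ hφ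
    -- the action on the set of components
    let act : ∀ φ ∈ 𝓗, isotypicComponents A V → isotypicComponents A V := fun φ hφ c =>
      ⟨pull φ.symm (hsymmN φ hφ) c,
        pull_mem_isotypicComponents φ.symm (hsymmN φ hφ) (hnorm' φ hφ) c.2⟩
    have hact_inj : ∀ φ (hφ : φ ∈ 𝓗), Function.Injective (act φ hφ) := by
      intro φ hφ c c' hcc
      have h1 : pull φ.symm (hsymmN φ hφ) c = pull φ.symm (hsymmN φ hφ) c' :=
        congrArg Subtype.val hcc
      exact Subtype.ext ((pullIso φ.symm (hsymmN φ hφ) (hnorm' φ hφ)).injective h1)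
    refine ⟨Nat.card (isotypicComponents A V),
      fun i => ((e.symm i : isotypicComponents A V) : Submodule A V).restrictScalars F,
      by omega, ?_, ?_, ?_, ?_, ?_, ?_, ?_⟩
    · intro i
      rw [Ne, Submodule.restrictScalars_eq_bot_iff]
      exact (bot_lt_isotypicComponents (hc i)).ne'
    · apply iSupIndep_restrictScalars
      have h1 := (sSupIndep_iff _).mp (sSupIndep_isotypicComponents A V)
      exact h1.comp e.symm.injective
    · rw [← Submodule.restrictScalars_iSup, Submodule.restrictScalars_eq_top_iff]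
      rw [Equiv.iSup_comp (g := fun x : isotypicComponents A V => (x : Submodule A V)) e.symm,
        ← sSup_eq_iSup', sSup_isotypicComponents]
    · intro φ hφ
      have hb : Function.Bijective (act φ hφ) := Finite.injective_iff_bijective.mp (hact_inj φ hφ)
      refine ⟨(e.symm.trans (Equiv.ofBijective _ hb)).trans e, ?_⟩
      intro i
      rw [map_eq_pull φ (hsymmN φ hφ)]
      simp only [Equiv.trans_apply, Equiv.ofBijective_apply, Equiv.symm_apply_apply]
      rfl
    · intro i j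
      by_contra hcon
      push Not at hcon
      set ci : Submodule A V := ((e.symm i : isotypicComponents A V) : Submodule A V) with hci
      set cj : Submodule A V := ((e.symm j : isotypicComponents A V) : Submodule A V) with hcj
      -- the orbit sum
      let U : Submodule F V := ⨆ φ : 𝓗, (ci.restrictScalars F).map ((φ : V ≃ₗ[F] V) : V →ₗ[F] V)
      have hUinv : ∀ ψ ∈ 𝓗, U.map (ψ : V →ₗ[F] V) ≤ U := by
        intro ψ hψ
        rw [Submodule.map_iSup]
        apply iSup_le
        intro φ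
        rw [← Submodule.map_comp]
        have h1 : ((ψ : V →ₗ[F] V) ∘ₗ ((φ : V ≃ₗ[F] V) : V →ₗ[F] V)) =
            (((φ : V ≃ₗ[F] V).trans ψ : V ≃ₗ[F] V) : V →ₗ[F] V) := by
          ext v; simp
        rw [h1]
        exact le_iSup (fun φ : 𝓗 => (ci.restrictScalars F).map ((φ : V ≃ₗ[F] V) : V →ₗ[F] V))
          ⟨_, htrans _ φ.2 _ hψ⟩
      have hUne : U ≠ ⊥ := by
        intro hU
        have h1 : ci.restrictScalars F ≤ U := by
          have := le_iSup (fun φ : 𝓗 => (ci.restrictScalars F).map ((φ : V ≃ₗ[F] V) : V →ₗ[F] V))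
            ⟨_, hrefl⟩
          simpa using this
        rw [hU, le_bot_iff, Submodule.restrictScalars_eq_bot_iff] at h1
        exact (bot_lt_isotypicComponents (hc i)).ne' h1
      have hUtop : U = ⊤ := (hirr U hUinv).resolve_left hUne
      -- every translate of `ci` is a component different from `cj`
      have hle : U ≤ (sSup (isotypicComponents A V \ {cj})).restrictScalars F := by
        apply iSup_le
        intro φ
        rw [map_eq_pull _ (hsymmN φ.1 φ.2)]
        apply Submodule.restrictScalars_mono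
        apply le_sSup
        refine ⟨(act φ.1 φ.2 (e.symm i)).2, ?_⟩
        intro hmem
        apply hcon φ.1 φ.2
        rw [map_eq_pull _ (hsymmN φ.1 φ.2)]
        exact congrArg (Submodule.restrictScalars F) hmem
      have hcjle : cj ≤ sSup (isotypicComponents A V \ {cj}) := by
        rw [← Submodule.restrictScalars_le (S := F)]
        refine le_trans ?_ hle
        rw [hUtop]
        exact le_top
      have hdisj := (sSupIndep_isotypicComponents A V) (hc j)
      have := hdisj.eq_bot_of_le hcjle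
      exact (bot_lt_isotypicComponents (hc j)).ne' this
    · intro f hf i
      rcases hf with hf | hf
      · exact map_le_of_mem hf _
      · exact map_le_of_commute hf (hc i)
    · intro W hW
      let W' : Submodule A V :=
        { carrier := W
          add_mem' := W.add_mem
          zero_mem' := W.zero_mem
          smul_mem' := fun a v hv => hW (a : Module.End F V) (Or.inl a.2) ⟨v, hv, rfl⟩ }
      have hW'fi : W'.IsFullyInvariant := by
        intro g v hv
        show g v ∈ W'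
        have hcomm : ∀ a ∈ A, (g.restrictScalars F) ∘ₗ a = a ∘ₗ (g.restrictScalars F) := by
          intro a ha
          apply LinearMap.ext
          intro v
          exact g.map_smul (⟨a, ha⟩ : A) v
        exact hW (g.restrictScalars F) (Or.inr hcomm) ⟨v, hv, rfl⟩
      obtain ⟨s, hs, hWs⟩ := isFullyInvariant_iff_sSup_isotypicComponents.mp hW'fi
      refine ⟨{j | ((e.symm j : isotypicComponents A V) : Submodule A V) ∈ s}, ?_⟩
      have h1 : W = W'.restrictScalars F := rfl
      have h2 : sSup s = ⨆ j, ⨆ (_ : ((e.symm j : isotypicComponents A V) : Submodule A V) ∈ s),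
          ((e.symm j : isotypicComponents A V) : Submodule A V) := by
        apply le_antisymm
        · apply sSup_le
          intro c hcs
          have hce : ((e.symm (e ⟨c, hs hcs⟩) : isotypicComponents A V) : Submodule A V) = c := by
            rw [Equiv.symm_apply_apply]
          have h3 : ((e.symm (e ⟨c, hs hcs⟩) : isotypicComponents A V) : Submodule A V) ∈ s := by
            rw [hce]; exact hcs
          calc c = ((e.symm (e ⟨c, hs hcs⟩) : isotypicComponents A V) : Submodule A V) := hce.symm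
            _ ≤ _ := le_iSup₂ (f := fun j (_ : ((e.symm j : isotypicComponents A V) :
                Submodule A V) ∈ s) => ((e.symm j : isotypicComponents A V) : Submodule A V))
                (e ⟨c, hs hcs⟩) h3
        · exact iSup₂_le fun j hj => le_sSup hj
      rw [h1, hWs, h2]
      simp only [Submodule.restrictScalars_iSup, Set.mem_ofPred_eq]

end Generic

section Mat
open Cfsg Cfsg.Geo Cfsg.Agent.Lib.Helper99.Asch
open scoped MatrixGroups Matrix

variable {ι : Type} [Fintype ι] [DecidableEq ι] {F : Type*} [Field F]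

/-- a subspace invariant under the generators is invariant under `endAlg N` -/
theorem map_le_of_mem_endAlg {N : Subgroup (GL ι F)} (W : Submodule F (ι → F))
    (hW : ∀ x ∈ N, W.map (Matrix.toLin' (x : Matrix ι ι F)) ≤ W)
    (a : Module.End F (ι → F)) (ha : a ∈ endAlg N) : W.map a ≤ W := by
  induction ha using Algebra.adjoin_induction with
  | mem a ha =>
    obtain ⟨x, hx, rfl⟩ := ha
    exact hW x hx
  | algebraMap r =>
    rintro _ ⟨w, hw, rfl⟩
    rw [Module.algebraMap_end_apply]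
    exact W.smul_mem r hw
  | add a b _ _ iha ihb =>
    rintro _ ⟨w, hw, rfl⟩
    rw [LinearMap.add_apply]
    exact W.add_mem (iha ⟨w, hw, rfl⟩) (ihb ⟨w, hw, rfl⟩)
  | mul a b _ _ iha ihb =>
    rintro _ ⟨w, hw, rfl⟩
    rw [Module.End.mul_apply]
    exact iha ⟨b w, ihb ⟨w, hw, rfl⟩, rfl⟩

/-- ASCH-[ISO] with two more clauses (general index type, semisimplicity as a hypothesis) -/
theorem isotypic_or_decomposition_fi (H N : Subgroup (GL ι F))
    (hirr : ActsIrreducibly (matrixSet H)) (hnrm : Nrm H N)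
    (hss : IsSemisimpleModule (endAlg N) (ι → F)) :
    IsIsotypic (endAlg N) (ι → F) ∨
    ∃ (t : ℕ) (D : Fin t → Submodule F (ι → F)), 2 ≤ t ∧ (∀ i, D i ≠ ⊥) ∧ iSupIndep D ∧ iSup D = ⊤ ∧
      (∀ h ∈ H, ∃ σ : Equiv.Perm (Fin t), ∀ i,
        (D i).map (Matrix.toLin' (h : Matrix ι ι F)) = D (σ i)) ∧
      (∀ i j, ∃ h ∈ H, (D i).map (Matrix.toLin' (h : Matrix ι ι F)) = D j) ∧
      (∀ g : GL ι F, (g ∈ N ∨ ∀ x ∈ N, g * x = x * g) → ∀ i,
        (D i).map (Matrix.toLin' (g : Matrix ι ι F)) = D i) ∧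
      (∀ T : Matrix ι ι F, (∀ x ∈ N, T * (x : Matrix ι ι F) = (x : Matrix ι ι F) * T) → ∀ i,
        (D i).map (Matrix.toLin' T) ≤ D i) ∧
      (∀ W : Submodule F (ι → F), (∀ x ∈ N, W.map (Matrix.toLin' (x : Matrix ι ι F)) ≤ W) →
        (∀ T : Matrix ι ι F, (∀ x ∈ N, T * (x : Matrix ι ι F) = (x : Matrix ι ι F) * T) →
          W.map (Matrix.toLin' T) ≤ W) →
        ∃ K : Set (Fin t), W = ⨆ j ∈ K, D j) := by
  have key := generic_main_fi (A := endAlg N) {φ | ∃ h ∈ H, φ = Lg h}
    ⟨1, H.one_mem, Lg_one.symm⟩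
    (by rintro _ ⟨h, hh, rfl⟩; exact ⟨h⁻¹, H.inv_mem hh, Lg_symm h⟩)
    (by rintro _ ⟨h, hh, rfl⟩ _ ⟨h', hh', rfl⟩; exact ⟨h' * h, H.mul_mem hh' hh, Lg_trans h h'⟩)
    (by rintro _ ⟨h, hh, rfl⟩; exact normA_of_nrm (hnrm h hh))
    (by
      intro W hW
      apply hirr W
      rintro _ ⟨h, hh, rfl⟩
      exact hW (Lg h) ⟨h, hh, rfl⟩)
  -- commuting with `endAlg N` in terms of matrices
  have hcommT : ∀ T : Matrix ι ι F, (∀ x ∈ N, T * (x : Matrix ι ι F) = (x : Matrix ι ι F) * T) →
      ∀ a ∈ endAlg N, Matrix.toLin' T ∘ₗ a = a ∘ₗ Matrix.toLin' T := by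
    intro T hT a ha
    induction ha using Algebra.adjoin_induction with
    | mem a ha =>
      obtain ⟨x, hx, rfl⟩ := ha
      show Matrix.toLin' T ∘ₗ Matrix.toLin' (x : Matrix ι ι F) =
        Matrix.toLin' (x : Matrix ι ι F) ∘ₗ Matrix.toLin' T
      rw [← Matrix.toLin'_mul, ← Matrix.toLin'_mul, hT x hx]
    | algebraMap r =>
      apply LinearMap.ext
      intro v
      simp only [LinearMap.comp_apply, Module.algebraMap_end_apply, map_smul]
    | add a b _ _ iha ihb =>
      rw [LinearMap.comp_add, LinearMap.add_comp, iha, ihb]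
    | mul a b _ _ iha ihb =>
      show Matrix.toLin' T ∘ₗ (a ∘ₗ b) = (a ∘ₗ b) ∘ₗ Matrix.toLin' T
      rw [← LinearMap.comp_assoc, iha, LinearMap.comp_assoc, ihb, LinearMap.comp_assoc]
  rcases key with h | ⟨t, D, ht, hne, hind, htop, hperm, htrans, hfix, hFI⟩
  · left; exact h
  · right
    refine ⟨t, D, ht, hne, hind, htop, ?_, ?_, ?_, ?_, ?_⟩
    · intro h hh
      obtain ⟨σ, hσ⟩ := hperm (Lg h) ⟨h, hh, rfl⟩
      exact ⟨σ, hσ⟩
    · intro i j
      obtain ⟨_, ⟨h, hh, rfl⟩, hφ⟩ := htrans i j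
      exact ⟨h, hh, hφ⟩
    · intro g hg i
      apply map_eq_of_le
      · apply hfix _ _ i
        rcases hg with hg | hg
        · exact Or.inl (toLin_mem_endAlg hg)
        · exact Or.inr (commute_endAlg hg)
      · apply hfix _ _ i
        rcases hg with hg | hg
        · exact Or.inl (toLin_mem_endAlg (N.inv_mem hg))
        · refine Or.inr (commute_endAlg ?_)
          intro x hx
          have := hg x hx
          calc g⁻¹ * x = g⁻¹ * (x * g) * g⁻¹ := by group
            _ = g⁻¹ * (g * x) * g⁻¹ := by rw [this]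
            _ = x * g⁻¹ := by group
    · intro T hT i
      exact hfix _ (Or.inr (hcommT T hT)) i
    · intro W hWN hWC
      apply hFI W
      intro f hf
      rcases hf with hf | hf
      · exact map_le_of_mem_endAlg W hWN f hf
      · have h1 : ∀ x ∈ N, LinearMap.toMatrix' f * (x : Matrix ι ι F) =
            (x : Matrix ι ι F) * LinearMap.toMatrix' f := by
          intro x hx
          have h2 := hf _ (toLin_mem_endAlg hx)
          have h3 := congrArg LinearMap.toMatrix' h2
          rw [LinearMap.toMatrix'_comp, LinearMap.toMatrix'_comp, LinearMap.toMatrix'_toLin'] at h3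
          exact h3
        have h4 := hWC _ h1
        rwa [Matrix.toLin'_toMatrix'] at h4

end Mat

section Form
open Cfsg Cfsg.Geo Cfsg.Agent.Lib.Helper99.Asch
open scoped MatrixGroups Matrix

variable {ι : Type} [Fintype ι] [DecidableEq ι] {F : Type*} [Field F]
variable {σ : F ≃+* F} {f : (ι → F) → (ι → F) → F}

omit [Fintype ι] [DecidableEq ι] in
theorem IsSesqForm.sub_left (hf : IsSesqForm σ f) (a b v : ι → F) :
    f (a - b) v = f a v - f b v := by
  have h := hf.add_left (a - b) b v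
  rw [sub_add_cancel] at h
  rw [h]; ring

omit [Fintype ι] [DecidableEq ι] in
/-- left cancellation for a non-degenerate form -/
theorem eq_of_forall_form_eq (hf : IsSesqForm σ f) (hnd : IsNondegenerateForm f) {a b : ι → F}
    (h : ∀ v, f a v = f b v) : a = b := by
  by_contra hab
  obtain ⟨-, ⟨x, hx⟩⟩ := hnd (a - b) (sub_ne_zero.mpr hab)
  apply hx
  rw [hf.sub_left, h x, sub_self]

/-- every matrix has a left adjoint for a non-degenerate sesquilinear form -/
theorem exists_adjoint (hf : IsSesqForm σ f) (hnd : IsNondegenerateForm f) (T : Matrix ι ι F) :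
    ∃ A : Matrix ι ι F, ∀ u v, f (A *ᵥ u) v = f u (T *ᵥ v) := by
  obtain ⟨Ju, hJu⟩ := hf.isUnit_gram hnd
  have hJinv : (↑Ju⁻¹ : Matrix ι ι F) * gram f = 1 := by rw [← hJu]; exact Ju.inv_mul
  refine ⟨(gram f * T.map σ * (↑Ju⁻¹ : Matrix ι ι F))ᵀ, fun u v => ?_⟩
  rw [hf.eq_gram, hf.eq_gram]
  have h1 : (fun j => σ ((T *ᵥ v) j)) = T.map σ *ᵥ (fun j => σ (v j)) := by
    ext j
    exact RingHom.map_mulVec (σ : F →+* F) T v j
  rw [h1, Matrix.dotProduct_mulVec, Matrix.vecMul_mulVec, Matrix.transpose_transpose,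
    ← Matrix.dotProduct_mulVec, Matrix.mulVec_mulVec]
  congr 2
  rw [Matrix.mul_assoc (gram f * T.map σ), hJinv, Matrix.mul_one]

theorem mulVec_inv_cancel (x : GL ι F) (v : ι → F) :
    (x : Matrix ι ι F) *ᵥ (((x⁻¹ : GL ι F) : Matrix ι ι F) *ᵥ v) = v := by
  rw [Matrix.mulVec_mulVec, ← Units.val_mul, mul_inv_cancel, Units.val_one, Matrix.one_mulVec]

/-- the left adjoint of a matrix commuting with `N ≤ similarityGroup f` commutes with `N` -/
theorem adjoint_commute (hf : IsSesqForm σ f) (hnd : IsNondegenerateForm f)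
    {N : Subgroup (GL ι F)} (hNsim : N ≤ similarityGroup f) {T A : Matrix ι ι F}
    (hT : ∀ x ∈ N, T * (x : Matrix ι ι F) = (x : Matrix ι ι F) * T)
    (hA : ∀ u v, f (A *ᵥ u) v = f u (T *ᵥ v)) :
    ∀ x ∈ N, A * (x : Matrix ι ι F) = (x : Matrix ι ι F) * A := by
  intro x hx
  obtain ⟨c, hc⟩ := hNsim hx
  have hTinv : T * ((x⁻¹ : GL ι F) : Matrix ι ι F) = ((x⁻¹ : GL ι F) : Matrix ι ι F) * T := by
    have h1 := hT x hx
    calc T * ((x⁻¹ : GL ι F) : Matrix ι ι F)
        = ((x⁻¹ : GL ι F) : Matrix ι ι F) * ((x : Matrix ι ι F) * T) *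
            ((x⁻¹ : GL ι F) : Matrix ι ι F) := by
          rw [← Matrix.mul_assoc, ← Units.val_mul, inv_mul_cancel, Units.val_one, Matrix.one_mul]
      _ = ((x⁻¹ : GL ι F) : Matrix ι ι F) * (T * (x : Matrix ι ι F)) *
            ((x⁻¹ : GL ι F) : Matrix ι ι F) := by rw [h1]
      _ = ((x⁻¹ : GL ι F) : Matrix ι ι F) * T := by
          rw [Matrix.mul_assoc, Matrix.mul_assoc, ← Units.val_mul, mul_inv_cancel, Units.val_one,
            Matrix.mul_one]
  have key : ∀ u : ι → F, (A * (x : Matrix ι ι F)) *ᵥ u = ((x : Matrix ι ι F) * A) *ᵥ u := by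
    intro u
    apply eq_of_forall_form_eq hf hnd
    intro v
    rw [← Matrix.mulVec_mulVec, ← Matrix.mulVec_mulVec, hA]
    -- right hand side
    have h2 : f ((x : Matrix ι ι F) *ᵥ (A *ᵥ u)) v =
        (c : F) * f (A *ᵥ u) (((x⁻¹ : GL ι F) : Matrix ι ι F) *ᵥ v) := by
      conv_lhs => rw [← mulVec_inv_cancel x v]
      exact hc _ _
    rw [h2, hA, Matrix.mulVec_mulVec, hTinv, ← Matrix.mulVec_mulVec, ← hc, mulVec_inv_cancel]
  apply Matrix.toLin'.injective
  apply LinearMap.ext
  intro u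
  simpa [Matrix.toLin'_apply] using key u

variable [Fintype F]

/-- **Form-aware Clifford theorem** (general index type, semisimplicity as a hypothesis). -/
theorem form_clifford_of (hf : IsSesqForm σ f) (hnd : IsNondegenerateForm f)
    (hrefl : ∀ u v, f u v = 0 → f v u = 0) (H N : Subgroup (GL ι F))
    (hirr : ActsIrreducibly (matrixSet H)) (hnrm : Nrm H N)
    (hss : IsSemisimpleModule (endAlg N) (ι → F))
    (hNsim : N ≤ similarityGroup f) (hHsim : H ≤ similarityGroup f) :
    IsIsotypic (endAlg N) (ι → F) ∨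
    ∃ (t : ℕ) (D : Fin t → Submodule F (ι → F)) (τ : Equiv.Perm (Fin t)), 2 ≤ t ∧ (∀ i, D i ≠ ⊥) ∧
      iSupIndep D ∧ iSup D = ⊤ ∧
      (∀ h ∈ H, ∃ π : Equiv.Perm (Fin t), ∀ i,
        (D i).map (Matrix.toLin' (h : Matrix ι ι F)) = D (π i)) ∧
      (∀ i j, ∃ h ∈ H, (D i).map (Matrix.toLin' (h : Matrix ι ι F)) = D j) ∧
      (∀ g : GL ι F, (g ∈ N ∨ ∀ x ∈ N, g * x = x * g) → ∀ i,
        (D i).map (Matrix.toLin' (g : Matrix ι ι F)) = D i) ∧
      (∀ i, τ (τ i) = i) ∧
      (∀ i j, j ≠ τ i → AreOrthogonalFor f (D i) (D j)) ∧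
      (∀ i, ∀ w ∈ D i, w ≠ 0 → ∃ x ∈ D (τ i), f x w ≠ 0) ∧
      ((∀ i, τ i = i) ∨ (∀ i, τ i ≠ i)) := by
  rcases isotypic_or_decomposition_fi H N hirr hnrm hss with h |
    ⟨t, D, ht, hne, hind, htop, hperm, htrans, hfix, hfixC, hFI⟩
  · exact Or.inl h
  right
  -- the perp of a component is a sum of components
  have hperp : ∀ i, ∃ K : Set (Fin t), rperp hf (D i) = ⨆ j ∈ K, D j := by
    intro i
    apply hFI
    · -- invariance under `N`
      intro x hx
      rintro _ ⟨v, hv, rfl⟩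
      intro w hw
      obtain ⟨c, hc⟩ := hNsim hx
      have hw' : ((x⁻¹ : GL ι F) : Matrix ι ι F) *ᵥ w ∈ D i := by
        have h1 := hfix x⁻¹ (Or.inl (N.inv_mem hx)) i
        rw [← h1]
        exact ⟨w, hw, rfl⟩
      have h2 : f w (Matrix.toLin' (x : Matrix ι ι F) v) =
          (c : F) * f (((x⁻¹ : GL ι F) : Matrix ι ι F) *ᵥ w) v := by
        rw [Matrix.toLin'_apply]
        conv_lhs => rw [← mulVec_inv_cancel x w]
        exact hc _ _
      rw [h2, hv _ hw', mul_zero]
    · -- invariance under the commutant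
      intro T hT
      rintro _ ⟨v, hv, rfl⟩
      intro w hw
      obtain ⟨A, hA⟩ := exists_adjoint hf hnd T
      have hAc := adjoint_commute hf hnd hNsim hT hA
      have hw' : A *ᵥ w ∈ D i := hfixC A hAc i ⟨w, hw, rfl⟩
      rw [Matrix.toLin'_apply, ← hA, hv _ hw']
  obtain ⟨τ, hτ2, hτorth, hτpair⟩ := perp_pairing hf hnd hrefl D hne hind htop hperp
  refine ⟨t, D, τ, ht, hne, hind, htop, hperm, htrans, hfix, hτ2, hτorth, hτpair, ?_⟩
  -- `τ` is the identity or fixed-point free
  by_cases hfixpt : ∃ i, τ i = i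
  · left
    obtain ⟨i, hi⟩ := hfixpt
    intro j
    obtain ⟨h, hh, hij⟩ := htrans i j
    obtain ⟨c, hc⟩ := hHsim hh
    obtain ⟨w₀, hw₀, hw₀0⟩ := (Submodule.ne_bot_iff _).mp (hne i)
    obtain ⟨x₀, hx₀, hxw⟩ := hτpair i w₀ hw₀ hw₀0
    rw [hi] at hx₀
    by_contra hj
    have h1 : AreOrthogonalFor f (D j) (D j) := hτorth j j (fun h => hj h.symm)
    have h2 := h1 ((h : Matrix ι ι F) *ᵥ x₀) (by rw [← hij]; exact ⟨x₀, hx₀, rfl⟩)
      ((h : Matrix ι ι F) *ᵥ w₀) (by rw [← hij]; exact ⟨w₀, hw₀, rfl⟩)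
    rw [hc] at h2
    exact hxw ((mul_eq_zero.mp h2).resolve_left c.ne_zero)
  · right
    push Not at hfixpt
    exact hfixpt

omit [Fintype ι] [DecidableEq ι] [Fintype F] in
/-- a self-paired component is non-degenerate -/
theorem isNondegenerateOn_of_pairing (hrefl : ∀ u v, f u v = 0 → f v u = 0)
    {W : Submodule F (ι → F)} (h : ∀ w ∈ W, w ≠ 0 → ∃ x ∈ W, f x w ≠ 0) :
    IsNondegenerateOn f W := by
  intro w hw hw0
  obtain ⟨x, hx, hxw⟩ := h w hw hw0
  exact ⟨⟨x, hx, hxw⟩, ⟨x, hx, fun h0 => hxw (hrefl _ _ h0)⟩⟩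

omit [Fintype F] in
/-- the members of a transitively permuted decomposition have the same dimension -/
theorem isMDecomposition_of_transitive {t : ℕ} (ht : 2 ≤ t) (D : Fin t → Submodule F (ι → F))
    (hne : ∀ i, D i ≠ ⊥) (hind : iSupIndep D) (htop : iSup D = ⊤)
    (htrans : ∀ i j, ∃ h : GL ι F, (D i).map (Matrix.toLin' (h : Matrix ι ι F)) = D j) :
    ∃ m, IsMDecomposition m D := by
  classical
  refine ⟨Module.finrank F (D ⟨0, by omega⟩), ht, ?_, ?_, hind, htop⟩
  · obtain ⟨w, hw, hw0⟩ := (Submodule.ne_bot_iff _).mp (hne ⟨0, by omega⟩)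
    exact Module.finrank_pos_iff_exists_ne_zero.mpr
      ⟨⟨w, hw⟩, fun h => hw0 (congrArg Subtype.val h)⟩
  · intro i
    obtain ⟨h, hh⟩ := htrans ⟨0, by omega⟩ i
    rw [← hh]
    exact LinearEquiv.finrank_map_eq (Lg h) _

end Form

section FinN
open Cfsg Cfsg.Geo Cfsg.Agent.Lib.Helper99.Asch
open scoped MatrixGroups Matrix

variable {n : ℕ} {F : Type*} [Field F] [Fintype F]
variable {σ : F ≃+* F} {f : (Fin n → F) → (Fin n → F) → F}

/-- **Form-aware Clifford theorem**, index type `Fin n`. -/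
theorem form_clifford (hf : IsSesqForm σ f) (hnd : IsNondegenerateForm f)
    (hrefl : ∀ u v, f u v = 0 → f v u = 0) (H N : Subgroup (GL (Fin n) F))
    (hirr : ActsIrreducibly (matrixSet H)) (hnrm : Nrm H N)
    (hNsim : N ≤ similarityGroup f) (hHsim : H ≤ similarityGroup f) :
    IsIsotypic (endAlg N) (Fin n → F) ∨
    ∃ (t : ℕ) (D : Fin t → Submodule F (Fin n → F)) (τ : Equiv.Perm (Fin t)), 2 ≤ t ∧
      (∀ i, D i ≠ ⊥) ∧ iSupIndep D ∧ iSup D = ⊤ ∧
      (∀ h ∈ H, ∃ π : Equiv.Perm (Fin t), ∀ i,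
        (D i).map (Matrix.toLin' (h : Matrix (Fin n) (Fin n) F)) = D (π i)) ∧
      (∀ i j, ∃ h ∈ H, (D i).map (Matrix.toLin' (h : Matrix (Fin n) (Fin n) F)) = D j) ∧
      (∀ g : GL (Fin n) F, (g ∈ N ∨ ∀ x ∈ N, g * x = x * g) → ∀ i,
        (D i).map (Matrix.toLin' (g : Matrix (Fin n) (Fin n) F)) = D i) ∧
      (∀ i, τ (τ i) = i) ∧
      (∀ i j, j ≠ τ i → AreOrthogonalFor f (D i) (D j)) ∧
      (∀ i, ∀ w ∈ D i, w ≠ 0 → ∃ x ∈ D (τ i), f x w ≠ 0) ∧
      ((∀ i, τ i = i) ∨ (∀ i, τ i ≠ i)) :=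
  form_clifford_of hf hnd hrefl H N hirr hnrm (semisimple_of_normalized H N hirr hnrm) hNsim hHsim

end FinN

end Cfsg.Agent.Lib.Helper37.Asch
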