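import Mathlib
import Cfsg.Prelude.Def_GeometricClasses
import Cfsg.Agent.Lib.Helper99.AschDefs
import Cfsg.Agent.Lib.Helper37.Asch.FormClifford

/-!
# ASCH form kit (helper37): the commutant is closed under adjoints

For `N` inside the similarity group of a non-degenerate sesquilinear form `f`, the commutant of `N`
and its centre are closed under adjoints for `f` (the frozen `IsAdjointClosedFor`).
-/

set_option autoImplicit false

namespace Cfsg.Agent.Lib.Helper37.Asch

open Cfsg Cfsg.Geo Matrix Cfsg.Agent.Lib.Helper99.Asch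
open scoped MatrixGroups

variable {ι : Type} [Fintype ι] [DecidableEq ι] {F : Type*} [Field F]
variable {σ : F ≃+* F} {f : (ι → F) → (ι → F) → F}

omit [Fintype ι] [DecidableEq ι] in
theorem IsSesqForm.sub_right (hf : IsSesqForm σ f) (u a b : ι → F) :
    f u (a - b) = f u a - f u b := by
  have h := hf.add_right u (a - b) b
  rw [sub_add_cancel] at h
  rw [h]; ring

omit [Fintype ι] [DecidableEq ι] in
/-- right cancellation for a non-degenerate form -/
theorem eq_of_forall_form_eq_right (hf : IsSesqForm σ f) (hnd : IsNondegenerateForm f)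
    {a b : ι → F} (h : ∀ u, f u a = f u b) : a = b := by
  by_contra hab
  obtain ⟨⟨x, hx⟩, -⟩ := hnd (a - b) (sub_ne_zero.mpr hab)
  apply hx
  rw [hf.sub_right, h x, sub_self]

/-- every matrix has a right adjoint for a non-degenerate sesquilinear form -/
theorem exists_right_adjoint (hf : IsSesqForm σ f) (hnd : IsNondegenerateForm f)
    (T : Matrix ι ι F) : ∃ A : Matrix ι ι F, ∀ u v, f (T *ᵥ u) v = f u (A *ᵥ v) := by
  obtain ⟨Ju, hJu⟩ := hf.isUnit_gram hnd
  have hJinv' : gram f * (↑Ju⁻¹ : Matrix ι ι F) = 1 := by rw [← hJu]; exact Ju.mul_inv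
  refine ⟨((↑Ju⁻¹ : Matrix ι ι F) * Tᵀ * gram f).map σ.symm, fun u v => ?_⟩
  rw [hf.eq_gram, hf.eq_gram]
  have h1 : (fun j => σ (((((↑Ju⁻¹ : Matrix ι ι F) * Tᵀ * gram f).map σ.symm) *ᵥ v) j)) =
      ((↑Ju⁻¹ : Matrix ι ι F) * Tᵀ * gram f) *ᵥ (fun j => σ (v j)) := by
    ext j
    have h := RingHom.map_mulVec (σ : F →+* F)
      ((((↑Ju⁻¹ : Matrix ι ι F) * Tᵀ * gram f).map σ.symm)) v j
    have h2 : ((((↑Ju⁻¹ : Matrix ι ι F) * Tᵀ * gram f).map σ.symm).map (σ : F →+* F)) =
        ((↑Ju⁻¹ : Matrix ι ι F) * Tᵀ * gram f) := by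
      ext a b
      rw [Matrix.map_apply, Matrix.map_apply]
      exact σ.apply_symm_apply _
    rw [h2] at h
    exact h
  rw [h1, Matrix.mulVec_mulVec, ← Matrix.mul_assoc, ← Matrix.mul_assoc, hJinv', Matrix.one_mul,
    Matrix.dotProduct_mulVec, Matrix.dotProduct_mulVec, Matrix.vecMul_mulVec]

/-- the right adjoint of a matrix commuting with `N ≤ similarityGroup f` commutes with `N` -/
theorem right_adjoint_commute (hf : IsSesqForm σ f) (hnd : IsNondegenerateForm f)
    {N : Subgroup (GL ι F)} (hNsim : N ≤ similarityGroup f) {T A : Matrix ι ι F}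
    (hT : ∀ x ∈ N, T * (x : Matrix ι ι F) = (x : Matrix ι ι F) * T)
    (hA : ∀ u v, f (T *ᵥ u) v = f u (A *ᵥ v)) :
    ∀ x ∈ N, A * (x : Matrix ι ι F) = (x : Matrix ι ι F) * A := by
  intro x hx
  obtain ⟨c, hc⟩ := hNsim hx
  have hTinv : T * ((x⁻¹ : GL ι F) : Matrix ι ι F) = ((x⁻¹ : GL ι F) : Matrix ι ι F) * T := by
    have h1 := hT x hx
    calc T * ((x⁻¹ : GL ι F) : Matrix ι ι F)
        = ((x⁻¹ : GL ι F) : Matrix ι ι F) * ((x : Matrix ι ι F) * T) *
            ((x⁻¹ : GL ι F) : Matrix ι ι F) := by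
          rw [← Matrix.mul_assoc, ← Units.val_mul, inv_mul_cancel, Units.val_one, Matrix.one_mul]
      _ = ((x⁻¹ : GL ι F) : Matrix ι ι F) * (T * (x : Matrix ι ι F)) *
            ((x⁻¹ : GL ι F) : Matrix ι ι F) := by rw [h1]
      _ = ((x⁻¹ : GL ι F) : Matrix ι ι F) * T := by
          rw [Matrix.mul_assoc, Matrix.mul_assoc, ← Units.val_mul, mul_inv_cancel, Units.val_one,
            Matrix.mul_one]
  have key : ∀ v : ι → F, (A * (x : Matrix ι ι F)) *ᵥ v = ((x : Matrix ι ι F) * A) *ᵥ v := by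
    intro v
    apply eq_of_forall_form_eq_right hf hnd
    intro u
    rw [← Matrix.mulVec_mulVec, ← Matrix.mulVec_mulVec, ← hA]
    have h2 : f u ((x : Matrix ι ι F) *ᵥ (A *ᵥ v)) =
        (c : F) * f (((x⁻¹ : GL ι F) : Matrix ι ι F) *ᵥ u) (A *ᵥ v) := by
      conv_lhs => rw [← mulVec_inv_cancel x u]
      exact hc _ _
    rw [h2, ← hA, Matrix.mulVec_mulVec, hTinv, ← Matrix.mulVec_mulVec, ← hc, mulVec_inv_cancel]
  apply Matrix.toLin'.injective
  apply LinearMap.ext
  intro u
  simpa [Matrix.toLin'_apply] using key u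

theorem mem_commutant_iff (N : Subgroup (GL ι F)) (k : Matrix ι ι F) :
    k ∈ commutant N ↔ ∀ x ∈ N, k * (x : Matrix ι ι F) = (x : Matrix ι ι F) * k := by
  unfold commutant
  rw [Subalgebra.mem_centralizer_iff]
  constructor
  · intro h x hx
    exact (h _ ⟨x, hx, rfl⟩).symm
  · rintro h _ ⟨x, hx, rfl⟩
    exact (h x hx).symm

theorem mem_commutantCenter_iff (N : Subgroup (GL ι F)) (k : Matrix ι ι F) :
    k ∈ commutantCenter N ↔ k ∈ commutant N ∧ ∀ m ∈ commutant N, m * k = k * m := by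
  unfold commutantCenter
  rw [Algebra.mem_inf, Subalgebra.mem_centralizer_iff]
  rfl

/-- the commutant of `N ≤ similarityGroup f` is closed under adjoints -/
theorem isAdjointClosedFor_commutant (hf : IsSesqForm σ f) (hnd : IsNondegenerateForm f)
    (N : Subgroup (GL ι F)) (hNsim : N ≤ similarityGroup f) :
    IsAdjointClosedFor f (commutant N) := by
  intro k hk
  obtain ⟨k', hk'⟩ := exists_right_adjoint hf hnd k
  refine ⟨k', ?_, hk'⟩
  rw [mem_commutant_iff] at hk ⊢
  exact right_adjoint_commute hf hnd hNsim hk hk'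

/-- the centre of the commutant of `N ≤ similarityGroup f` is closed under adjoints -/
theorem isAdjointClosedFor_commutantCenter (hf : IsSesqForm σ f) (hnd : IsNondegenerateForm f)
    (N : Subgroup (GL ι F)) (hNsim : N ≤ similarityGroup f) :
    IsAdjointClosedFor f (commutantCenter N) := by
  intro k hk
  rw [mem_commutantCenter_iff] at hk
  obtain ⟨hkc, hkz⟩ := hk
  obtain ⟨k', hk'⟩ := exists_right_adjoint hf hnd k
  have hk'c : k' ∈ commutant N := by
    rw [mem_commutant_iff] at hkc ⊢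
    exact right_adjoint_commute hf hnd hNsim hkc hk'
  refine ⟨k', ?_, hk'⟩
  rw [mem_commutantCenter_iff]
  refine ⟨hk'c, ?_⟩
  intro m hm
  -- the left adjoint of `m` lies in the commutant
  obtain ⟨m', hm'⟩ := exists_adjoint hf hnd m
  have hm'c : m' ∈ commutant N := by
    rw [mem_commutant_iff] at hm ⊢
    exact adjoint_commute hf hnd hNsim hm hm'
  have hcomm := hkz m' hm'c
  apply Matrix.toLin'.injective
  apply LinearMap.ext
  intro v
  simp only [Matrix.toLin'_apply]
  apply eq_of_forall_form_eq_right hf hnd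
  intro u
  rw [← Matrix.mulVec_mulVec, ← Matrix.mulVec_mulVec, ← hm', ← hk', ← hk', ← hm',
    Matrix.mulVec_mulVec, Matrix.mulVec_mulVec, hcomm]

end Cfsg.Agent.Lib.Helper37.Asch
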